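import Groth.Agent.Lib.PBasis.Basic
import Mathlib.FieldTheory.Perfect
import Mathlib.RingTheory.Ideal.Quotient.Nilpotent
import Mathlib.RingTheory.Smooth.Basic

/-!
# Lifting along `p`-bases over perfect rings
-/

universe u

open EGA41

namespace GrothLib.PBasis

variable {p : ℕ} [hp : Fact p.Prime] {A B : Type u} [CommRing A] [CommRing B] [Algebra A B]
  [CharP A p] [PerfectRing A p] [CharP B p] [IsReduced B]

theorem exists_root_of_mem_pPower {c : B} (hc : c ∈ pPowerSubalgebra p A B) : ∃ b : B, b ^ p = c := by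
  induction hc using Algebra.adjoin_induction with
  | mem b hb => exact hb
  | algebraMap r =>
      obtain ⟨a, rfl⟩ := (surjective_frobenius A p) r
      exact ⟨algebraMap A B a, by rw [frobenius_def, map_pow]⟩
  | add a b _ _ ha hb =>
      obtain ⟨a', rfl⟩ := ha; obtain ⟨b', rfl⟩ := hb
      exact ⟨a' + b', add_pow_char a' b' p⟩
  | mul a b _ _ ha hb =>
      obtain ⟨a', rfl⟩ := ha; obtain ⟨b', rfl⟩ := hb
      exact ⟨a' * b', mul_pow a' b' p⟩

/-- Lifting along `π` with kernel `K`, prescribing the values on the `p`-basis. -/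
def LiftsUniquely (p : ℕ) (A : Type u) [CommRing A] {B : Type u} [CommRing B] [Algebra A B]
    {ι : Type u} (x : ι → B) {E : Type u} [CommRing E] (K : Ideal E) : Prop :=
  ∀ [Algebra A E] (F : Type u) [CommRing F] [Algebra A F] (π : E →ₐ[A] F),
    Function.Surjective π → RingHom.ker π = K →
      ∀ (v : B →ₐ[A] F) (z : ι → E), (∀ i, π (z i) = v (x i)) →
        ∃! w : B →ₐ[A] E, π.comp w = v ∧ ∀ i, w (x i) = z i

omit [CharP A p] [PerfectRing A p] in
theorem natCast_eq_zero_of_algebra [CharP A p] (E : Type u) [CommRing E] [Algebra A E] :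
    (p : E) = 0 := by
  rw [← map_natCast (algebraMap A E), CharP.cast_eq_zero A p, map_zero]

theorem liftsUniquely_of_sq_eq_bot {ι : Type u} {x : ι → B} (hx : IsPBasis p A x)
    {E : Type u} [CommRing E] (K : Ideal E) (hK2 : K ^ 2 = ⊥) : LiftsUniquely p A x K := by
  intro _ F _ _ π hπ hker v z hz
  have h0 : (p : E) = 0 := natCast_eq_zero_of_algebra (p := p) (A := A) E
  have hKp : K ^ p = ⊥ := le_bot_iff.1 (hK2 ▸ Ideal.pow_le_pow_right hp.out.two_le)
  choose σ hσ using hπ
  have hwd : ∀ {a : E} {b : F}, π a = b → a ^ p = σ b ^ p := fun {a b} hab =>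
    pow_eq_of_sub_mem p h0 hKp (hker ▸ RingHom.mem_ker.2 (by rw [map_sub, hab, hσ, sub_self]))
  choose r hr using fun c : pPowerSubalgebra p A B => exists_root_of_mem_pPower c.2
  have hr' : ∀ {b : B} {c : pPowerSubalgebra p A B}, b ^ p = (c : B) → r c = b := fun {b c} hbc =>
    frobenius_inj B p (by rw [frobenius_def, frobenius_def, hr, hbc])
  let φ : pPowerSubalgebra p A B →+* E :=
    { toFun := fun c => σ (v (r c)) ^ p
      map_one' := by
        rw [← hwd (a := 1) (by rw [hr' (b := 1) (by simp), map_one, map_one]), one_pow]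
      map_mul' := fun c d => by
        rw [← mul_pow]
        exact (hwd (by rw [map_mul, hσ, hσ, ← map_mul,
          hr' (b := r c * r d) (c := c * d) (by rw [mul_pow, hr, hr]; rfl)])).symm
      map_zero' := by
        rw [← hwd (a := 0) (by rw [hr' (b := 0) (by simp [hp.out.ne_zero]), map_zero, map_zero]),
          zero_pow hp.out.ne_zero]
      map_add' := fun c d => by
        have e := add_pow_of_natCast_eq_zero p h0 (σ (v (r c))) (σ (v (r d))) 1
        rw [pow_one] at e
        rw [← e]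
        exact (hwd (by rw [map_add, hσ, hσ, ← map_add,
          hr' (b := r c + r d) (c := c + d) (by rw [add_pow_char, hr, hr]; rfl)])).symm }
  have hφA : ∀ a : A, φ (algebraMap A _ a) = algebraMap A E a := by
    intro a
    obtain ⟨a', rfl⟩ := surjective_frobenius A p a
    change σ (v (r _)) ^ p = _
    rw [← hwd (a := algebraMap A E a') (by
      rw [π.commutes, hr' (b := algebraMap A B a') (by
        rw [← map_pow]; rfl), v.commutes]), frobenius_def, map_pow]
  have hh := isRootBasis_of_isPBasis hx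
  letI : Algebra (pPowerSubalgebra p A B) E := φ.toAlgebra
  haveI : IsScalarTower A (pPowerSubalgebra p A B) E :=
    IsScalarTower.of_algebraMap_eq fun a => (hφA a).symm
  obtain ⟨w, hw⟩ := hh.exists_lift z (fun i c hc => by
    change z i ^ p = σ (v (r c)) ^ p
    exact hwd (by rw [hz i, hr' (b := x i) (by rw [← hc]; rfl)]))
  have hadj : Algebra.adjoin A (Set.range x ∪ (Set.range fun b : B => b ^ p)) = ⊤ := by
    suffices h : ∀ b, b ∈ Algebra.adjoin (pPowerSubalgebra p A B) (Set.range x) →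
        b ∈ Algebra.adjoin A (Set.range x ∪ (Set.range fun b : B => b ^ p)) by
      exact eq_top_iff.2 fun b _ => h b (hh.adjoin_eq_top ▸ Algebra.mem_top)
    intro b hb
    induction hb using Algebra.adjoin_induction with
    | mem y hy => exact Algebra.subset_adjoin (Or.inl hy)
    | algebraMap c => exact Algebra.adjoin_mono Set.subset_union_right c.2
    | add _ _ _ _ h1 h2 => exact add_mem h1 h2
    | mul _ _ _ _ h1 h2 => exact mul_mem h1 h2
  have hwp : ∀ b : B, w (b ^ p) = σ (v b) ^ p := by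
    intro b
    have := w.commutes ⟨b ^ p, Algebra.subset_adjoin ⟨b, rfl⟩⟩
    refine this.trans ?_
    change σ (v (r _)) ^ p = _
    rw [hr' (b := b) rfl]
  refine ⟨w.restrictScalars A, ⟨AlgHom.ext_of_adjoin_eq_top hadj ?_, hw⟩, ?_⟩
  · rintro _ (⟨i, rfl⟩ | ⟨b, rfl⟩)
    · rw [AlgHom.comp_apply, AlgHom.restrictScalars_apply, hw i, hz i]
    · rw [AlgHom.comp_apply, AlgHom.restrictScalars_apply, hwp, map_pow, hσ, map_pow]
  · rintro w' ⟨hw'1, hw'2⟩
    refine AlgHom.ext_of_adjoin_eq_top hadj ?_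
    rintro _ (⟨i, rfl⟩ | ⟨b, rfl⟩)
    · rw [AlgHom.restrictScalars_apply, hw'2 i, hw i]
    · rw [AlgHom.restrictScalars_apply, hwp, map_pow]
      exact hwd (AlgHom.congr_fun hw'1 b)

theorem liftsUniquely_of_isNilpotent {ι : Type u} {x : ι → B} (hx : IsPBasis p A x)
    {E : Type u} [CommRing E] (K : Ideal E) (hK : IsNilpotent K) : LiftsUniquely p A x K := by
  refine Ideal.IsNilpotent.induction_on K hK
    (P := fun ⦃S⦄ _ J => LiftsUniquely p A x J)
    (fun S _ J hJ => liftsUniquely_of_sq_eq_bot hx J hJ) ?_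
  intro S _ I J hIJ hI hJ _ F _ _ π hπ hker v z hz
  let π' : S ⧸ I →ₐ[A] F := Ideal.Quotient.liftₐ I π fun a ha =>
    RingHom.mem_ker.1 (hker.symm ▸ hIJ ha : a ∈ RingHom.ker π)
  have hπ' : ∀ a, π' (Ideal.Quotient.mk I a) = π a := fun a => rfl
  have hker' : RingHom.ker π' = J.map (Ideal.Quotient.mk I) := by
    apply le_antisymm
    · intro a ha
      obtain ⟨a, rfl⟩ := Ideal.Quotient.mk_surjective a
      refine Ideal.mem_map_of_mem _ ?_
      rw [← hker]
      exact RingHom.mem_ker.2 ((hπ' a).symm.trans (RingHom.mem_ker.1 ha))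
    · rw [Ideal.map_le_iff_le_comap]
      intro a ha
      exact RingHom.mem_ker.2 ((hπ' a).trans (RingHom.mem_ker.1 (hker.symm ▸ ha : a ∈ RingHom.ker π)))
  obtain ⟨w₁, ⟨hw₁, hw₁x⟩, hu₁⟩ := hJ F π'
    (fun b => by obtain ⟨a, rfl⟩ := hπ b; exact ⟨Ideal.Quotient.mk I a, rfl⟩) hker' v
    (fun i => Ideal.Quotient.mk I (z i)) hz
  obtain ⟨w₂, ⟨hw₂, hw₂x⟩, hu₂⟩ := hI (S ⧸ I) (Ideal.Quotient.mkₐ A I)
    Ideal.Quotient.mk_surjective (Ideal.Quotient.mkₐ_ker A I) w₁ z (fun i => (hw₁x i).symm)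
  refine ⟨w₂, ⟨?_, hw₂x⟩, ?_⟩
  · rw [← hw₁, ← hw₂]; rfl
  · rintro w ⟨hw, hwx⟩
    exact hu₂ w ⟨hu₁ _ ⟨hw, fun i => by rw [AlgHom.comp_apply, hwx i]; rfl⟩, hwx⟩

theorem formallySmooth_of_isPBasis {ι : Type u} {x : ι → B} (hx : IsPBasis p A x) :
    Algebra.FormallySmooth A B := by
  refine Algebra.FormallySmooth.of_comp_surjective fun E _ _ I hI v => ?_
  choose z hz using fun i => Ideal.Quotient.mk_surjective (I := I) (v (x i))
  obtain ⟨w, ⟨hw, -⟩, -⟩ := liftsUniquely_of_sq_eq_bot hx I hI (E ⧸ I) (Ideal.Quotient.mkₐ A I)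
    Ideal.Quotient.mk_surjective (Ideal.Quotient.mkₐ_ker A I) v z hz
  exact ⟨w, hw⟩

end GrothLib.PBasis
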