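import Groth.Agent.Lib.PBasis.Radicial
import Mathlib.FieldTheory.KummerPolynomial
import Mathlib.RingTheory.PowerBasis
import Mathlib.FieldTheory.IntermediateField.Adjoin.Algebra
import Mathlib.Order.Zorn
import Mathlib.Data.Finset.Insert

/-!
# `p`-bases of field extensions
-/

universe u

open KaehlerDifferential (D)
open EGA41

namespace GrothLib.PBasis

variable (p : ℕ) [hp : Fact p.Prime] (k : Type u) {K : Type u} [Field k] [Field K] [Algebra k K]

/-- The field `k(K ^ p)(s)`. -/
noncomputable def genField (s : Set K) : IntermediateField k K :=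
  IntermediateField.adjoin k ((Set.range fun y : K => y ^ p) ∪ s)

variable {p k}

theorem pPower_le_genField (s : Set K) :
    (pPowerSubalgebra p k K) ≤ (genField p k s).toSubalgebra :=
  Algebra.adjoin_le fun _ hb => IntermediateField.subset_adjoin k _ (Or.inl hb)

theorem subset_genField (s : Set K) : s ⊆ (genField p k s : Set K) :=
  fun _ hb => IntermediateField.subset_adjoin k _ (Or.inr hb)

theorem genField_mono {s t : Set K} (h : s ⊆ t) : genField p k s ≤ genField p k t :=
  IntermediateField.adjoin.mono k _ _ (Set.union_subset_union_right _ h)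

theorem inv_mem_of_pow_mem (S : Subalgebra k K) (h : ∀ b : K, b ^ p ∈ S) {b : K} (hb : b ∈ S) :
    b⁻¹ ∈ S := by
  rcases eq_or_ne b 0 with rfl | hb0
  · simpa using hb
  · have e : b⁻¹ = b ^ (p - 1) * (b⁻¹) ^ p := by
      rw [inv_pow, ← div_eq_mul_inv, eq_div_iff (pow_ne_zero _ hb0)]
      obtain ⟨q, hq⟩ : ∃ q, p = q + 1 := ⟨p - 1, (Nat.sub_add_cancel hp.out.one_le).symm⟩
      rw [hq, Nat.add_sub_cancel, pow_succ']
      exact inv_mul_cancel_left₀ hb0 _
    rw [e]
    exact mul_mem (pow_mem hb _) (h _)

/-- `k(K^p)(x_i)` consists of the combinations of reduced monomials. -/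
theorem mem_genField_iff {ι : Type u} (x : ι → K) (b : K) :
    b ∈ genField p k (Set.range x) ↔
      b ∈ Submodule.span (pPowerSubalgebra p k K)
        (Set.range fun e : Red p ι => pMonomial x e.1) := by
  rw [span_red_eq_adjoin p (fun i => pow_mem_pPower (x i)), Subalgebra.mem_toSubmodule]
  let S : Subalgebra k K := (Algebra.adjoin (pPowerSubalgebra p k K) (Set.range x)).restrictScalars k
  have hS : ∀ y : K, y ^ p ∈ S := fun y => Subalgebra.algebraMap_mem
    (Algebra.adjoin (pPowerSubalgebra p k K) (Set.range x))
    (⟨y ^ p, Algebra.subset_adjoin ⟨y, rfl⟩⟩ : pPowerSubalgebra p k K)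
  constructor
  · intro hb
    induction hb using IntermediateField.adjoin_induction with
    | mem y hy =>
        rcases hy with ⟨z, rfl⟩ | hy
        · exact hS z
        · exact Algebra.subset_adjoin hy
    | algebraMap r => exact S.algebraMap_mem r
    | add _ _ _ _ h1 h2 => exact add_mem h1 h2
    | inv _ _ h1 => exact inv_mem_of_pow_mem S hS h1
    | mul _ _ _ _ h1 h2 => exact mul_mem h1 h2
  · intro hb
    induction hb using Algebra.adjoin_induction with
    | mem y hy => exact subset_genField _ hy
    | algebraMap r => exact pPower_le_genField _ r.2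
    | add _ _ _ _ h1 h2 => exact add_mem h1 h2
    | mul _ _ _ _ h1 h2 => exact mul_mem h1 h2

theorem isPGenerating_iff {ι : Type u} (x : ι → K) :
    IsPGenerating p k x ↔ genField p k (Set.range x) = ⊤ := by
  rw [IsPGenerating, eq_top_iff, eq_top_iff]
  exact ⟨fun h b _ => (mem_genField_iff x b).2 (h Submodule.mem_top),
    fun h b _ => (mem_genField_iff x b).1 (h IntermediateField.mem_top)⟩

theorem pMonomial_mapDomain {ι κ : Type u} {f : κ → ι} (x : ι → K) (e : κ →₀ ℕ) :
    pMonomial x (e.mapDomain f) = pMonomial (x ∘ f) e :=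
  Finsupp.prod_mapDomain_index (fun _ => pow_zero _) (fun _ _ _ => pow_add _ _ _)

theorem isPIndependent_comp {ι κ : Type u} {x : ι → K} (h : IsPIndependent p k x) (f : κ → ι)
    (hf : Function.Injective f) : IsPIndependent p k (x ∘ f) := by
  let F : Red p κ → Red p ι := fun e => ⟨e.1.mapDomain f, fun i => by
    by_cases hi : i ∈ Set.range f
    · obtain ⟨j, rfl⟩ := hi
      rw [Finsupp.mapDomain_apply hf]; exact e.2 j
    · rw [Finsupp.mapDomain_of_notMem_range _ _ hi]; exact hp.out.pos⟩
  have hF : Function.Injective F := fun e e' he =>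
    Subtype.ext (Finsupp.mapDomain_injective hf (congrArg Subtype.val he))
  have := LinearIndependent.comp h F hF
  unfold IsPIndependent
  convert this using 1
  funext e
  exact (pMonomial_mapDomain x e.1).symm

theorem isPIndependent_equiv {ι κ : Type u} {x : ι → K} (f : κ ≃ ι) :
    IsPIndependent p k (x ∘ f) ↔ IsPIndependent p k x := by
  refine ⟨fun h => ?_, fun h => isPIndependent_comp h f f.injective⟩
  have := isPIndependent_comp h f.symm f.symm.injective
  simpa [Function.comp_assoc] using this

theorem injective_of_isPIndependent {ι : Type u} {x : ι → K} (h : IsPIndependent p k x) :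
    Function.Injective x := by
  intro i j hij
  by_contra hne
  have hs : ∀ i : ι, ∀ a, (Finsupp.single i 1 : ι →₀ ℕ) a < p := fun i a =>
    lt_of_le_of_lt (by classical rw [Finsupp.single_apply]; split_ifs <;> simp) hp.out.one_lt
  have := h.injective (a₁ := ⟨Finsupp.single i 1, hs i⟩) (a₂ := ⟨Finsupp.single j 1, hs j⟩)
    (by simp [pMonomial_single, hij])
  exact hne ((Finsupp.single_eq_single_iff _ _ _ _).1 (congrArg Subtype.val this)
    |>.elim (fun h => h.1) (fun h => absurd h.1 one_ne_zero))

theorem notMem_genField_of_isPIndependent {ι : Type u} {x : ι → K} (h : IsPIndependent p k x)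
    (a : ι) : x a ∉ genField p k (x '' {b | b ≠ a}) := by
  intro hmem
  have e : x '' {b | b ≠ a} = Set.range (fun b : {b : ι // b ≠ a} => x b.1) := by
    rw [Set.image_eq_range]; rfl
  rw [e, mem_genField_iff] at hmem
  have ha : ∀ i, (Finsupp.single a 1 : ι →₀ ℕ) i < p := fun i =>
    lt_of_le_of_lt (by classical rw [Finsupp.single_apply]; split_ifs <;> simp) hp.out.one_lt
  refine LinearIndependent.notMem_span_image h (s := {e : Red p ι | e.1 a = 0})
    (x := ⟨Finsupp.single a 1, ha⟩) (by simp) ?_
  rw [pMonomial_single, pow_one]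
  refine Submodule.span_mono ?_ hmem
  rintro _ ⟨e, rfl⟩
  refine ⟨⟨e.1.mapDomain Subtype.val, fun i => ?_⟩, ?_, pMonomial_mapDomain x e.1⟩
  · by_cases hi : i ≠ a
    · rw [show i = Subtype.val (⟨i, hi⟩ : {b : ι // b ≠ a}) from rfl,
        Finsupp.mapDomain_apply Subtype.val_injective]
      exact e.2 _
    · rw [Finsupp.mapDomain_of_notMem_range _ _ (by simpa using hi)]; exact hp.out.pos
  · exact Finsupp.mapDomain_of_notMem_range _ _ (by simp)

section charp

variable [CharP K p]

theorem pow_ne_of_notMem {s : Set K} {y : K} (hy : y ∉ genField p k s) (b : genField p k s) :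
    (b : K) ^ p ≠ y ^ p := fun h => hy (frobenius_inj K p h ▸ b.2)

theorem isPIndependent_option {ι : Type u} {x : ι → K} (h : IsPIndependent p k x) {y : K}
    (hy : y ∉ genField p k (Set.range x)) :
    IsPIndependent p k (fun o : Option ι => o.elim y x) := by
  classical
  set F := genField p k (Set.range x)
  have hyp : y ^ p ∈ F := pPower_le_genField _ (Algebra.subset_adjoin ⟨y, rfl⟩)
  have hirr : Irreducible (Polynomial.X ^ p - Polynomial.C (⟨y ^ p, hyp⟩ : F)) :=
    X_pow_sub_C_irreducible_of_prime hp.out fun b hb =>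
      pow_ne_of_notMem hy b (by simpa using congrArg Subtype.val hb)
  have hmin : Polynomial.X ^ p - Polynomial.C (⟨y ^ p, hyp⟩ : F) = minpoly F y :=
    minpoly.eq_of_irreducible_of_monic hirr (by simp) (Polynomial.monic_X_pow_sub_C _ hp.out.ne_zero)
  have li : LinearIndependent F (fun j : Fin p => y ^ (j : ℕ)) := by
    have h' := linearIndependent_pow (K := F) y
    have hd : (minpoly F y).natDegree = p := by rw [← hmin, Polynomial.natDegree_X_pow_sub_C]
    exact h'.comp (Fin.cast hd.symm) (Fin.cast_injective _)
  letI : Algebra (pPowerSubalgebra p k K) F :=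
    (Subalgebra.inclusion (pPower_le_genField (Set.range x))).toRingHom.toAlgebra
  haveI : IsScalarTower (pPowerSubalgebra p k K) F K := IsScalarTower.of_algebraMap_eq fun _ => rfl
  have hmemF : ∀ e : Red p ι, pMonomial x e.1 ∈ F := fun e =>
    (mem_genField_iff x _).2 (Submodule.subset_span ⟨e, rfl⟩)
  let b : Red p ι → F := fun e => ⟨pMonomial x e.1, hmemF e⟩
  have hb : LinearIndependent (pPowerSubalgebra p k K) b :=
    LinearIndependent.of_comp (IsScalarTower.toAlgHom (pPowerSubalgebra p k K) F K).toLinearMap h
  have hbc := linearIndependent_smul hb li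
  let G : Red p (Option ι) → Red p ι × Fin p := fun e =>
    (⟨e.1.some, fun i => by simpa using e.2 (Option.some i)⟩, ⟨e.1 none, e.2 none⟩)
  have hG : Function.Injective G := by
    intro e e' he
    simp only [G, Prod.mk.injEq, Subtype.mk.injEq, Fin.mk.injEq] at he
    refine Subtype.ext (Finsupp.ext fun o => ?_)
    cases o with
    | none => exact he.2
    | some i => simpa using DFunLike.congr_fun he.1 i
  unfold IsPIndependent
  convert hbc.comp G hG using 1
  funext e
  change pMonomial (fun o => o.elim y x) e.1 = pMonomial x e.1.some * y ^ e.1 none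
  unfold pMonomial
  rw [Finsupp.prod_option_index _ _ (fun _ => pow_zero _) (fun _ _ _ => pow_add _ _ _), mul_comm]
  rfl

theorem isPIndependent_of_forall_finset {ι : Type u} {x : ι → K}
    (h : ∀ s : Finset ι, IsPIndependent p k (fun i : s => x i)) : IsPIndependent p k x := by
  classical
  rw [IsPIndependent, linearIndependent_iff_finset_linearIndependent]
  intro T
  let s : Finset ι := T.biUnion fun e => e.1.support
  have hs : ∀ e ∈ T, e.1.support ⊆ s := fun e he => Finset.subset_biUnion_of_mem (fun e => e.1.support) he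
  let F : T → Red p s := fun e => ⟨e.1.1.comapDomain Subtype.val Subtype.val_injective.injOn,
    fun i => by simpa using e.1.2 i⟩
  have key : ∀ e : T, (F e).1.mapDomain Subtype.val = e.1.1 := fun e =>
    Finsupp.mapDomain_comapDomain _ Subtype.val_injective _
      (fun i hi => ⟨⟨i, hs e.1 e.2 hi⟩, rfl⟩)
  have hF : Function.Injective F := fun e e' he => Subtype.ext (Subtype.ext (by
    rw [← key e, ← key e', he]))
  convert (h s).comp F hF using 1
  funext e
  change pMonomial x e.1.1 = pMonomial (x ∘ Subtype.val) (F e).1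
  rw [← pMonomial_mapDomain, key]

theorem isPIndependent_iff {ι : Type u} (x : ι → K) :
    IsPIndependent p k x ↔ ∀ a, x a ∉ genField p k (x '' {b | b ≠ a}) := by
  classical
  refine ⟨notMem_genField_of_isPIndependent, fun h => isPIndependent_of_forall_finset fun s => ?_⟩
  induction s using Finset.induction with
  | empty =>
      rw [IsPIndependent]
      haveI : Subsingleton (Red p (∅ : Finset ι)) :=
        ⟨fun a b => Subtype.ext (Finsupp.ext fun i => absurd i.2 (Finset.notMem_empty _))⟩
      refine linearIndependent_subsingleton_index_iff _ |>.2 fun e => ?_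
      rw [show e.1 = 0 from Finsupp.ext fun i => absurd i.2 (Finset.notMem_empty _), pMonomial_zero]
      exact one_ne_zero
  | insert a s has ih =>
      rw [← isPIndependent_equiv (Finset.subtypeInsertEquivOption has).symm]
      have := isPIndependent_option ih (y := x a) (fun hm => h a (genField_mono (by
        rintro _ ⟨i, rfl⟩
        exact ⟨i.1, fun hi => has (hi ▸ i.2), rfl⟩) hm))
      convert this using 1
      funext o
      cases o <;> rfl

/-- A `p`-independent subset of a generating set extends to a `p`-basis inside it. -/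
theorem exists_pBasis {S L : Set K} (hLS : L ⊆ S) (hS : IsPGenerating p k (Subtype.val : S → K))
    (hL : IsPIndependent p k (Subtype.val : L → K)) :
    ∃ B : Set K, L ⊆ B ∧ B ⊆ S ∧ IsPBasis p k (Subtype.val : B → K) := by
  classical
  let P : Set (Set K) := {B | B ⊆ S ∧ IsPIndependent p k (Subtype.val : B → K)}
  obtain ⟨B, hLB, hBmax⟩ := zorn_subset_nonempty P (by
    intro c hc hchain hne
    refine ⟨⋃₀ c, ⟨Set.sUnion_subset fun B hB => (hc hB).1, ?_⟩, fun B hB => Set.subset_sUnion_of_mem hB⟩
    refine isPIndependent_of_forall_finset fun s => ?_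
    obtain ⟨B, hB, hsB⟩ := hchain.directedOn.exists_mem_subset_of_finite_of_subset_sUnion hne
      (s := Subtype.val '' (s : Set ↥(⋃₀ c))) (s.finite_toSet.image _)
      (by rintro _ ⟨i, -, rfl⟩; exact i.2)
    exact isPIndependent_comp (hc hB).2 (fun i : s => (⟨i.1.1, hsB ⟨i.1, i.2, rfl⟩⟩ : B))
      (fun i j hij => Subtype.ext (Subtype.ext (congrArg (fun b : B => (b : K)) hij)))) L ⟨hLS, hL⟩
  refine ⟨B, hLB, hBmax.1.1, hBmax.1.2, ?_⟩
  rw [isPGenerating_iff, Subtype.range_coe] at hS ⊢
  by_contra hne
  obtain ⟨y, hyS, hy⟩ : ∃ y ∈ S, y ∉ genField p k B := by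
    by_contra hcon
    push Not at hcon
    refine hne (top_le_iff.1 (hS ▸ IntermediateField.adjoin_le_iff.2 ?_))
    exact Set.union_subset (fun _ hb => IntermediateField.subset_adjoin k _ (Or.inl hb)) hcon
  have hyB : y ∉ B := fun h => hy (subset_genField B h)
  have hins : IsPIndependent p k (Subtype.val : ↥(insert y B) → K) := by
    rw [← isPIndependent_equiv (Set.subtypeInsertEquivOption hyB).symm]
    convert isPIndependent_option hBmax.1.2 (y := y) (by rwa [Subtype.range_coe]) using 1
    funext o
    cases o <;> rfl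
  exact hyB (hBmax.2 ⟨Set.insert_subset hyS hBmax.1.1, hins⟩ (Set.subset_insert y B)
    (Set.mem_insert y B))

theorem exists_pBasis_superset {ι : Type u} {x : ι → K} (hx : IsPIndependent p k x) :
    ∃ B : Set K, Set.range x ⊆ B ∧ IsPBasis p k (Subtype.val : B → K) := by
  obtain ⟨B, h1, -, h2⟩ := exists_pBasis (S := Set.univ) (L := Set.range x) (Set.subset_univ _)
    (by
      rw [isPGenerating_iff, Subtype.range_coe, eq_top_iff]
      exact fun b _ => subset_genField _ (Set.mem_univ b))
    ((isPIndependent_equiv (Equiv.ofInjective x (injective_of_isPIndependent hx))).1 hx)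
  exact ⟨B, h1, h2⟩

theorem D_mem_span {s : Set K} {b : K} (hb : b ∈ genField p k s) :
    D k K b ∈ Submodule.span K (D k K '' s) := by
  induction hb using IntermediateField.adjoin_induction with
  | mem y hy =>
      rcases hy with ⟨z, rfl⟩ | hy
      · rw [leibniz_pow_p p (D k K) (CharP.cast_eq_zero K p)]; exact zero_mem _
      · exact Submodule.subset_span ⟨y, hy, rfl⟩
  | algebraMap r => rw [Derivation.map_algebraMap]; exact zero_mem _
  | add _ _ _ _ h1 h2 => rw [map_add]; exact add_mem h1 h2
  | inv _ _ h1 => rw [Derivation.leibniz_inv]; exact Submodule.smul_mem _ _ h1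
  | mul _ _ _ _ h1 h2 =>
      rw [Derivation.leibniz]
      exact add_mem (Submodule.smul_mem _ _ h2) (Submodule.smul_mem _ _ h1)

theorem isPIndependent_iff_linearIndependent {ι : Type u} (x : ι → K) :
    IsPIndependent p k x ↔ LinearIndependent K (fun i => D k K (x i)) := by
  constructor
  · intro hx
    obtain ⟨B, hxB, hB⟩ := exists_pBasis_superset hx
    obtain ⟨b, hb⟩ := exists_basis_kaehler (CharP.cast_eq_zero K p) _ hB
    have h := b.linearIndependent.comp (fun i => (⟨x i, hxB ⟨i, rfl⟩⟩ : B)) fun i j hij =>
      injective_of_isPIndependent hx (congrArg Subtype.val hij)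
    have e : (fun i => D k K (x i)) = b ∘ fun i => (⟨x i, hxB ⟨i, rfl⟩⟩ : B) :=
      funext fun i => (hb (⟨x i, hxB ⟨i, rfl⟩⟩ : B)).symm
    rw [e]
    exact h
  · intro hli
    rw [isPIndependent_iff]
    intro a ha
    refine hli.notMem_span_image (s := {b | b ≠ a}) (x := a) (by simp) ?_
    have := D_mem_span ha
    rwa [Set.image_image] at this

theorem isPGenerating_iff_span {ι : Type u} (x : ι → K) :
    IsPGenerating p k x ↔ Submodule.span K (Set.range fun i => D k K (x i)) = ⊤ := by
  classical
  constructor
  · intro h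
    rw [isPGenerating_iff] at h
    rw [eq_top_iff, ← KaehlerDifferential.span_range_derivation k K, Submodule.span_le]
    rintro _ ⟨b, rfl⟩
    have := D_mem_span (p := p) (k := k) (b := b) (s := Set.range x) (h ▸ IntermediateField.mem_top)
    rwa [← Set.range_comp] at this
  · intro hspan
    rw [isPGenerating_iff]
    by_contra hne
    obtain ⟨y, hy⟩ : ∃ y, y ∉ genField p k (Set.range x) := by
      by_contra hcon
      push Not at hcon
      exact hne (eq_top_iff.2 fun b _ => hcon b)
    obtain ⟨B', hB', hB⟩ := exists_pBasis_superset (p := p) (k := genField p k (Set.range x))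
      (x := fun _ : PUnit.{u+1} => y) (by
        rw [isPIndependent_iff]
        intro a hmem
        refine hy ?_
        have hle : ∀ b ∈ genField p (genField p k (Set.range x))
            ((fun _ : PUnit.{u+1} => y) '' {b | b ≠ a}), b ∈ genField p k (Set.range x) := by
          intro b hb
          induction hb using IntermediateField.adjoin_induction with
          | mem z hz =>
              rcases hz with ⟨w, rfl⟩ | ⟨c, hc, rfl⟩
              · exact pPower_le_genField _ (Algebra.subset_adjoin ⟨w, rfl⟩)
              · exact absurd (Subsingleton.elim c a) hc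
          | algebraMap r => exact r.2
          | add _ _ _ _ h1 h2 => exact add_mem h1 h2
          | inv _ _ h1 => exact inv_mem h1
          | mul _ _ _ _ h1 h2 => exact mul_mem h1 h2
        exact hle _ hmem)
    obtain ⟨b, hb⟩ := exists_basis_kaehler (CharP.cast_eq_zero K p) _ hB
    have hne0 : D (genField p k (Set.range x)) K y ≠ 0 := hb ⟨y, hB' ⟨PUnit.unit, rfl⟩⟩ ▸ b.ne_zero _
    refine hne0 ?_
    have hmem : D k K y ∈ Submodule.span K (Set.range fun i => D k K (x i)) :=
      hspan ▸ Submodule.mem_top
    have := Submodule.mem_map_of_mem (f := KaehlerDifferential.map k (genField p k (Set.range x)) K K)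
      hmem
    rw [Submodule.map_span, ← Set.range_comp, KaehlerDifferential.map_D,
      Algebra.algebraMap_self_apply] at this
    rw [(Submodule.span_eq_bot).2 ?_, Submodule.mem_bot] at this
    · exact this
    rintro _ ⟨i, rfl⟩
    simp only [Function.comp_apply, KaehlerDifferential.map_D, Algebra.algebraMap_self_apply]
    exact Derivation.map_algebraMap _ (⟨x i, subset_genField _ ⟨i, rfl⟩⟩ : genField p k (Set.range x))

end charp

end GrothLib.PBasis
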