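import Groth.Prelude.Def_EGA41
import Mathlib.Algebra.CharP.Lemmas
import Mathlib.Algebra.MvPolynomial.Equiv
import Mathlib.Algebra.MvPolynomial.Basic
import Mathlib.RingTheory.Ideal.Quotient.Operations
import Mathlib.Algebra.TrivSqZeroExt.Basic

/-!
# `p`-bases: the universal property and derivations
-/

universe u v w

open scoped TensorProduct
open KaehlerDifferential (D)

namespace GrothLib.PBasis

open EGA41

section charp

variable (p : ℕ) [Fact p.Prime] {R : Type*} [CommRing R]

theorem add_pow_of_natCast_eq_zero (h : (p : R) = 0) (a b : R) (n : ℕ) :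
    (a + b) ^ p ^ n = a ^ p ^ n + b ^ p ^ n := by
  rcases subsingleton_or_nontrivial R with hs | hn
  · exact Subsingleton.elim _ _
  · haveI := (CharP.charP_iff_prime_eq_zero (R := R) Fact.out).2 h
    exact add_pow_char_pow a b p n

theorem sub_pow_of_natCast_eq_zero (h : (p : R) = 0) (a b : R) (n : ℕ) :
    (a - b) ^ p ^ n = a ^ p ^ n - b ^ p ^ n := by
  rcases subsingleton_or_nontrivial R with hs | hn
  · exact Subsingleton.elim _ _
  · haveI := (CharP.charP_iff_prime_eq_zero (R := R) Fact.out).2 h
    exact sub_pow_char_pow a b n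

theorem pow_eq_of_sub_mem {S : Type*} [CommRing S] (h : (p : S) = 0) {K : Ideal S} (hK : K ^ p = ⊥)
    {a b : S} (hab : a - b ∈ K) : a ^ p = b ^ p := by
  have h1 : (a - b) ^ p ∈ K ^ p := Ideal.pow_mem_pow hab p
  rw [hK, Ideal.mem_bot] at h1
  have h2 := sub_pow_of_natCast_eq_zero p h a b 1
  rw [pow_one, h1] at h2
  exact sub_eq_zero.1 h2.symm

theorem leibniz_pow_p {A : Type*} [CommRing A] {M : Type*} [AddCommGroup M] [Module R M]
    [Algebra A R] [Module A M] (D : Derivation A R M) (h : (p : R) = 0) (b : R) : D (b ^ p) = 0 := by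
  rw [Derivation.leibniz_pow, ← Nat.cast_smul_eq_nsmul R, h, zero_smul]

end charp

/-- Reduced exponent vectors. -/
abbrev Red (p : ℕ) (ι : Type u) : Type u := {e : ι →₀ ℕ // ∀ i, e i < p}

section monomial

variable {B : Type v} [CommRing B] {ι : Type u}

theorem pMonomial_add {ι : Type v} (x : ι → B) (e f : ι →₀ ℕ) :
    pMonomial x (e + f) = pMonomial x e * pMonomial x f :=
  Finsupp.prod_add_index' (fun _ => pow_zero _) (fun _ _ _ => pow_add _ _ _)

theorem pMonomial_single {ι : Type v} (x : ι → B) (i : ι) (n : ℕ) :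
    pMonomial x (Finsupp.single i n) = x i ^ n :=
  Finsupp.prod_single_index (pow_zero _)

theorem pMonomial_zero {ι : Type v} (x : ι → B) : pMonomial x (0 : ι →₀ ℕ) = 1 :=
  Finsupp.prod_zero_index

theorem pMonomial_nsmul {ι : Type v} (x : ι → B) (n : ℕ) (e : ι →₀ ℕ) :
    pMonomial x (n • e) = pMonomial (fun i => x i ^ n) e := by
  unfold pMonomial
  rw [show n • e = e.mapRange (fun k => n * k) (mul_zero n) by ext; simp,
    Finsupp.prod_mapRange_index (fun _ => pow_zero _)]
  exact Finsupp.prod_congr fun i _ => by rw [← pow_mul]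

theorem map_pMonomial {ι : Type v} {B' : Type v} [CommRing B'] {F : Type*} [FunLike F B B']
    [RingHomClass F B B'] (f : F) (x : ι → B) (e : ι →₀ ℕ) :
    f (pMonomial x e) = pMonomial (fun i => f (x i)) e := by
  simp only [pMonomial, map_finsuppProd, map_pow]

theorem aeval_monomial_eq {ι : Type v} {C : Type*} [CommRing C] [Algebra C B] (x : ι → B)
    (e : ι →₀ ℕ) (a : C) :
    MvPolynomial.aeval x (MvPolynomial.monomial e a) = a • pMonomial x e := by
  rw [MvPolynomial.aeval_monomial, Algebra.smul_def]
  rfl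

end monomial

/-- `x` is a family of `p`-th roots of elements of `C` whose reduced monomials form a basis of `B`
over `C`; equivalently `B ≅ C[X_i]/(X_i ^ p - c_i)`. -/
structure IsRootBasis (p : ℕ) (C : Type w) {B : Type u} [CommRing C] [CommRing B] [Algebra C B]
    {ι : Type u} (x : ι → B) : Prop where
  pow_mem : ∀ i, x i ^ p ∈ Set.range (algebraMap C B)
  indep : LinearIndependent C (fun e : Red p ι => pMonomial x e.1)
  span_eq_top : Submodule.span C (Set.range fun e : Red p ι => pMonomial x e.1) = ⊤

section rootbasis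

variable (p : ℕ) [hp : Fact p.Prime]
variable {C : Type w} {B : Type u} [CommRing C] [CommRing B] [Algebra C B] {ι : Type u} {x : ι → B}

/-- The reduced part of an exponent vector. -/
noncomputable def redMod (n : ι →₀ ℕ) : Red p ι :=
  ⟨n.mapRange (· % p) (Nat.zero_mod p), fun i => by
    simpa using Nat.mod_lt _ hp.out.pos⟩

/-- The quotient part of an exponent vector. -/
noncomputable def redDiv (n : ι →₀ ℕ) : ι →₀ ℕ := n.mapRange (· / p) (Nat.zero_div p)

theorem pMonomial_redMod_redDiv {R : Type u} [CommRing R] (z : ι → R) (n : ι →₀ ℕ) :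
    pMonomial (fun i => z i ^ p) (redDiv p n) * pMonomial z (redMod p n).1 = pMonomial z n := by
  rw [← pMonomial_nsmul, ← pMonomial_add]
  congr 1
  ext i
  simp [redMod, redDiv, Nat.div_add_mod]

theorem pMonomial_eq_smul {E : Type u} [CommRing E] [Algebra C E] (z : ι → E) (c : ι → C)
    (hz : ∀ i, z i ^ p = algebraMap C E (c i)) (n : ι →₀ ℕ) :
    pMonomial z n = ((redDiv p n).prod fun i k => c i ^ k) • pMonomial z (redMod p n).1 := by
  rw [Algebra.smul_def, map_finsuppProd]
  simp only [map_pow, ← hz]
  exact (pMonomial_redMod_redDiv p z n).symm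

theorem span_red_eq_adjoin {x : ι → B} (hc : ∀ i, x i ^ p ∈ Set.range (algebraMap C B)) :
    Submodule.span C (Set.range fun e : Red p ι => pMonomial x e.1) =
      Subalgebra.toSubmodule (Algebra.adjoin C (Set.range x)) := by
  choose c hc using hc
  apply le_antisymm
  · rw [Submodule.span_le]
    rintro _ ⟨e, rfl⟩
    exact Subalgebra.prod_mem _ fun i _ => Subalgebra.pow_mem _ (Algebra.subset_adjoin (Set.mem_range_self i)) _
  · intro b hb
    rw [Subalgebra.mem_toSubmodule, Algebra.adjoin_range_eq_range_aeval] at hb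
    obtain ⟨P, rfl⟩ := hb
    induction P using MvPolynomial.induction_on' with
    | monomial n a =>
        simp only [AlgHom.toRingHom_eq_coe, RingHom.coe_coe, aeval_monomial_eq]
        rw [pMonomial_eq_smul p x c (fun i => (hc i).symm)]
        exact Submodule.smul_mem _ _ (Submodule.smul_mem _ _ (Submodule.subset_span ⟨_, rfl⟩))
    | add P Q hP hQ => rw [map_add]; exact add_mem hP hQ

/-- Reduction of polynomials modulo the relations `X_i ^ p = c_i`. -/
noncomputable def reduce (c : ι → C) : MvPolynomial ι C →ₗ[C] (Red p ι →₀ C) :=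
  (MvPolynomial.basisMonomials ι C).constr C fun n =>
    Finsupp.single (redMod p n) ((redDiv p n).prod fun i k => c i ^ k)

theorem aeval_eq_linearCombination {E : Type u} [CommRing E] [Algebra C E] (z : ι → E) (c : ι → C)
    (hz : ∀ i, z i ^ p = algebraMap C E (c i)) (P : MvPolynomial ι C) :
    MvPolynomial.aeval z P =
      Finsupp.linearCombination C (fun e : Red p ι => pMonomial z e.1) (reduce p c P) := by
  have : (MvPolynomial.aeval z).toLinearMap =
      Finsupp.linearCombination C (fun e : Red p ι => pMonomial z e.1) ∘ₗ reduce p c := by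
    refine (MvPolynomial.basisMonomials ι C).ext fun n => ?_
    rw [LinearMap.comp_apply, reduce, Module.Basis.constr_basis, Finsupp.linearCombination_single,
      MvPolynomial.coe_basisMonomials, AlgHom.toLinearMap_apply, aeval_monomial_eq, one_smul]
    exact pMonomial_eq_smul p z c hz n
  exact LinearMap.congr_fun this P

namespace IsRootBasis

variable {p}

theorem adjoin_eq_top (h : IsRootBasis p C x) : Algebra.adjoin C (Set.range x) = ⊤ := by
  rw [← Algebra.toSubmodule_eq_top, ← span_red_eq_adjoin p h.pow_mem, h.span_eq_top]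

theorem algHom_ext (h : IsRootBasis p C x) {E : Type*} [CommRing E] [Algebra C E]
    {f g : B →ₐ[C] E} (hfg : ∀ i, f (x i) = g (x i)) : f = g :=
  AlgHom.ext_of_adjoin_eq_top h.adjoin_eq_top (by rintro _ ⟨i, rfl⟩; exact hfg i)

/-- The universal property. -/
theorem exists_lift (h : IsRootBasis p C x) {E : Type u} [CommRing E] [Algebra C E] (z : ι → E)
    (hz : ∀ i (c : C), algebraMap C B c = x i ^ p → z i ^ p = algebraMap C E c) :
    ∃ φ : B →ₐ[C] E, ∀ i, φ (x i) = z i := by
  choose c hc using h.pow_mem
  have hz' : ∀ i, z i ^ p = algebraMap C E (c i) := fun i => hz i _ (hc i)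
  have hsurj : Function.Surjective (MvPolynomial.aeval x : MvPolynomial ι C →ₐ[C] B) := by
    rw [← AlgHom.range_eq_top, ← Algebra.adjoin_range_eq_range_aeval, h.adjoin_eq_top]
  have hker : ∀ P : MvPolynomial ι C, MvPolynomial.aeval x P = 0 → MvPolynomial.aeval z P = 0 := by
    intro P hP
    rw [aeval_eq_linearCombination p x c (fun i => (hc i).symm)] at hP
    rw [aeval_eq_linearCombination p z c hz', linearIndependent_iff.1 h.indep _ hP, map_zero]
  refine ⟨(Ideal.Quotient.liftₐ (RingHom.ker (MvPolynomial.aeval x : MvPolynomial ι C →ₐ[C] B))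
    (MvPolynomial.aeval z) (fun P hP => hker P hP)).comp
      (Ideal.quotientKerAlgEquivOfSurjective hsurj).symm.toAlgHom, fun i => ?_⟩
  have hi : (Ideal.quotientKerAlgEquivOfSurjective hsurj).symm (x i) =
      Ideal.Quotient.mk _ (MvPolynomial.X i) := by
    rw [AlgEquiv.symm_apply_eq]
    exact (MvPolynomial.aeval_X x i).symm
  rw [AlgHom.comp_apply]
  change Ideal.Quotient.liftₐ _ _ _ ((Ideal.quotientKerAlgEquivOfSurjective hsurj).symm (x i)) = _
  rw [hi]
  exact MvPolynomial.aeval_X z i

end IsRootBasis

end rootbasis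

section sqzero

/-- `B ⊕ L` with the square-zero multiplication, as a bare ring. -/
def SqExt (B : Type u) (L : Type v) [CommRing B] [AddCommGroup L] [Module B L] : Type max u v :=
  TrivSqZeroExt B L

variable {B : Type u} {L : Type v} [CommRing B] [AddCommGroup L] [Module B L]

/-- The right action on a module over a commutative ring. -/
noncomputable abbrev opMod (B : Type u) (L : Type v) [CommRing B] [AddCommGroup L] [Module B L] :
    Module Bᵐᵒᵖ L :=
  Module.compHom L ((RingHom.id B).fromOpposite mul_comm)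

theorem isCentralScalar_opMod (B : Type u) (L : Type v) [CommRing B] [AddCommGroup L] [Module B L] :
    letI := opMod B L; IsCentralScalar B L := by
  letI := opMod B L
  exact ⟨fun _ _ => rfl⟩

noncomputable instance : CommRing (SqExt B L) :=
  letI := opMod B L
  haveI := isCentralScalar_opMod B L
  inferInstanceAs (CommRing (TrivSqZeroExt B L))

namespace SqExt

/-- The pair `(b, l)`. -/
def mk (b : B) (l : L) : SqExt B L := (b, l)

/-- First component. -/
def fst (z : SqExt B L) : B := TrivSqZeroExt.fst (R := B) (M := L) z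

/-- Second component. -/
def snd (z : SqExt B L) : L := TrivSqZeroExt.snd (R := B) (M := L) z

@[ext] theorem ext {z z' : SqExt B L} (h₁ : z.fst = z'.fst) (h₂ : z.snd = z'.snd) : z = z' :=
  TrivSqZeroExt.ext h₁ h₂

@[simp] theorem fst_mk (b : B) (l : L) : (mk b l).fst = b := rfl
@[simp] theorem snd_mk (b : B) (l : L) : (mk b l).snd = l := rfl
@[simp] theorem fst_zero : (0 : SqExt B L).fst = 0 := rfl
@[simp] theorem snd_zero : (0 : SqExt B L).snd = 0 := rfl
@[simp] theorem fst_one : (1 : SqExt B L).fst = 1 := rfl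
@[simp] theorem snd_one : (1 : SqExt B L).snd = 0 := rfl
@[simp] theorem fst_add (a b : SqExt B L) : (a + b).fst = a.fst + b.fst := rfl
@[simp] theorem snd_add (a b : SqExt B L) : (a + b).snd = a.snd + b.snd := rfl
@[simp] theorem fst_mul (a b : SqExt B L) : (a * b).fst = a.fst * b.fst := rfl
@[simp] theorem snd_mul (a b : SqExt B L) : (a * b).snd = a.fst • b.snd + b.fst • a.snd := rfl

theorem fst_pow (a : SqExt B L) (n : ℕ) : (a ^ n).fst = a.fst ^ n := by
  induction n with
  | zero => simp
  | succ n ih => rw [pow_succ, fst_mul, ih, pow_succ]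

theorem snd_pow (a : SqExt B L) (n : ℕ) : (a ^ n).snd = n • a.fst ^ (n - 1) • a.snd := by
  induction n with
  | zero => simp
  | succ n ih =>
      rw [pow_succ, snd_mul, ih, fst_pow, Nat.add_sub_cancel, succ_nsmul']
      rcases n with _ | n
      · simp
      · rw [Nat.add_sub_cancel, smul_comm (a.fst) (n + 1), smul_smul, ← pow_succ']

/-- The projection. -/
def fstHom : SqExt B L →+* B where
  toFun := fst
  map_one' := rfl
  map_mul' _ _ := rfl
  map_zero' := rfl
  map_add' _ _ := rfl

/-- The ring map attached to a derivation. -/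
noncomputable def ofDer {A : Type w} [CommRing A] (f : A →+* B) (D : A →+ L)
    (hD : ∀ a b, D (a * b) = f a • D b + f b • D a) : A →+* SqExt B L where
  toFun a := mk (f a) (D a)
  map_one' := by
    have h := hD 1 1
    simp only [mul_one, map_one f, one_smul] at h
    ext
    · simp
    · simpa using left_eq_add.1 h
  map_mul' a b := by ext <;> simp [hD]
  map_zero' := by ext <;> simp
  map_add' a b := by ext <;> simp

end SqExt

end sqzero

section derivations

variable {p : ℕ} [hp : Fact p.Prime]
variable {C : Type w} {B : Type u} [CommRing C] [CommRing B] [Algebra C B] {ι : Type u} {x : ι → B}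

/-- Derivations out of `B` are freely determined by their restriction to `C` and their values on
the root basis. -/
theorem IsRootBasis.existsUnique_derivation (h : IsRootBasis p C x) (h0 : (p : B) = 0) {L : Type u}
    [AddCommGroup L] [Module B L] (D : C →+ L)
    (hD : ∀ a b, D (a * b) = algebraMap C B a • D b + algebraMap C B b • D a)
    (hc : ∀ i (c : C), algebraMap C B c = x i ^ p → D c = 0) (y : ι → L) :
    ∃! D' : Derivation ℤ B L, (∀ c, D' (algebraMap C B c) = D c) ∧ ∀ i, D' (x i) = y i := by
  have huniq : ∀ D₁ D₂ : Derivation ℤ B L, (∀ c, D₁ (algebraMap C B c) = D₂ (algebraMap C B c)) →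
      (∀ i, D₁ (x i) = D₂ (x i)) → D₁ = D₂ := by
    intro D₁ D₂ hC hX
    ext b
    induction (h.adjoin_eq_top ▸ Algebra.mem_top : b ∈ Algebra.adjoin C (Set.range x)) using
      Algebra.adjoin_induction with
    | mem b hb => obtain ⟨i, rfl⟩ := hb; exact hX i
    | algebraMap r => exact hC r
    | add a b _ _ ha hb => rw [map_add, map_add, ha, hb]
    | mul a b _ _ ha hb => rw [Derivation.leibniz, Derivation.leibniz, ha, hb]
  letI : Algebra C (SqExt B L) := (SqExt.ofDer (algebraMap C B) D hD).toAlgebra
  obtain ⟨φ, hφ⟩ := h.exists_lift (fun i => SqExt.mk (x i) (y i)) (fun i c hcx => by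
    change _ = SqExt.mk (algebraMap C B c) (D c)
    ext
    · simp [SqExt.fst_pow, hcx]
    · rw [SqExt.snd_pow, ← Nat.cast_smul_eq_nsmul B, h0, zero_smul, SqExt.snd_mk, hc i c hcx])
  have hfst : ∀ b, (φ b).fst = b := by
    intro b
    have : (⟨(SqExt.fstHom (L := L)), fun _ => rfl⟩ : SqExt B L →ₐ[C] B).comp φ = AlgHom.id C B :=
      h.algHom_ext fun i => by
        change (φ (x i)).fst = x i
        rw [hφ]; rfl
    exact AlgHom.congr_fun this b
  refine ⟨Derivation.mk' (AddMonoidHom.toIntLinearMap
      { toFun := fun b => (φ b).snd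
        map_zero' := by simp
        map_add' := fun a b => by simp }) (fun a b => ?_), ⟨fun c => ?_, fun i => ?_⟩, ?_⟩
  · simp [map_mul, hfst]
  · change (φ (algebraMap C B c)).snd = D c
    rw [φ.commutes]; rfl
  · change (φ (x i)).snd = y i
    rw [hφ]; rfl
  · rintro D' ⟨h1, h2⟩
    refine huniq _ _ (fun c => ?_) (fun i => ?_)
    · rw [h1]; change D c = (φ (algebraMap C B c)).snd; rw [φ.commutes]; rfl
    · rw [h2]; change y i = (φ (x i)).snd; rw [hφ]; rfl

end derivations

section ega41

variable {p : ℕ} [hp : Fact p.Prime] {A B : Type u} [CommRing A] [CommRing B] [Algebra A B]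

theorem pow_mem_pPower (b : B) :
    b ^ p ∈ Set.range (algebraMap (pPowerSubalgebra p A B) B) :=
  ⟨⟨b ^ p, Algebra.subset_adjoin ⟨b, rfl⟩⟩, rfl⟩

theorem isRootBasis_of_isPBasis {ι : Type u} {x : ι → B} (hx : IsPBasis p A x) :
    IsRootBasis p (pPowerSubalgebra p A B) x :=
  ⟨fun i => pow_mem_pPower (x i), hx.1, hx.2⟩

theorem derivation_pPower (h0 : (p : B) = 0) {L : Type u} [AddCommGroup L] [Module B L] [Module A L]
    (D : Derivation A B L) {b : B} (hb : b ∈ pPowerSubalgebra p A B) : D b = 0 := by
  induction hb using Algebra.adjoin_induction with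
  | mem b hb => obtain ⟨c, rfl⟩ := hb; exact leibniz_pow_p p D h0 c
  | algebraMap r => exact D.map_algebraMap r
  | add a b _ _ ha hb => rw [map_add, ha, hb, add_zero]
  | mul a b _ _ ha hb => rw [Derivation.leibniz, ha, hb, smul_zero, smul_zero, add_zero]

theorem pPower_eq_bot (hpow : ∀ b : B, b ^ p ∈ Set.range (algebraMap A B)) :
    pPowerSubalgebra p A B = ⊥ := by
  rw [eq_bot_iff, pPowerSubalgebra, Algebra.adjoin_le_iff]
  rintro _ ⟨b, rfl⟩
  exact Algebra.mem_bot.2 (hpow b)

theorem surjective_algebraMap_pPower (hpow : ∀ b : B, b ^ p ∈ Set.range (algebraMap A B)) :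
    Function.Surjective (algebraMap A (pPowerSubalgebra p A B)) := by
  rintro ⟨b, hb⟩
  rw [pPower_eq_bot hpow, Algebra.mem_bot] at hb
  obtain ⟨a, rfl⟩ := hb
  exact ⟨a, rfl⟩

theorem isRootBasis_base (hinj : Function.Injective (algebraMap A B))
    (hpow : ∀ b : B, b ^ p ∈ Set.range (algebraMap A B)) {ι : Type u} {x : ι → B}
    (hx : IsPBasis p A x) : IsRootBasis p A x := by
  refine ⟨fun i => hpow (x i), hx.1.restrict_scalars ?_, ?_⟩
  · intro a b hab
    have := congrArg (algebraMap (pPowerSubalgebra p A B) B) hab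
    simp only [Algebra.smul_def, mul_one] at this
    exact hinj this
  · rw [← Submodule.coe_eq_univ]
    rw [← Submodule.restrictScalars_span A (pPowerSubalgebra p A B)
      (surjective_algebraMap_pPower hpow)] at *
    rw [hx.2]; simp

/-- The differentials of a `p`-basis form a basis of the module of differentials. -/
theorem exists_basis_kaehler (h0 : (p : B) = 0) {ι : Type u} (x : ι → B) (hx : IsPBasis p A x) :
    ∃ b : Module.Basis ι B (Ω[B⁄A]), ∀ i, b i = D A B (x i) := by
  have h := isRootBasis_of_isPBasis hx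
  obtain ⟨D', ⟨hD1, hD2⟩, -⟩ := h.existsUnique_derivation h0 (L := ι →₀ B) 0 (by simp) (by simp)
    (fun i => Finsupp.single i 1)
  have hA : ∀ a : A, D' (algebraMap A B a) = 0 := fun a =>
    hD1 ⟨algebraMap A B a, Subalgebra.algebraMap_mem _ a⟩
  let DA : Derivation A B (ι →₀ B) := Derivation.mk'
    { toFun := D'
      map_add' := map_add D'
      map_smul' := fun a b => by
        rw [Algebra.smul_def, Derivation.leibniz, hA, smul_zero, add_zero, RingHom.id_apply,
          algebraMap_smul] } (fun a b => D'.leibniz a b)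
  let f : Ω[B⁄A] →ₗ[B] (ι →₀ B) := DA.liftKaehlerDifferential
  have hf : ∀ i, f (D A B (x i)) = Finsupp.single i 1 := fun i => by
    rw [Derivation.liftKaehlerDifferential_comp_D]; exact hD2 i
  have li : LinearIndependent B fun i => D A B (x i) := by
    refine LinearIndependent.of_comp f ?_
    simpa [Function.comp_def, hf] using Finsupp.linearIndependent_single_one B ι
  refine ⟨Module.Basis.mk li ?_, fun i => Module.Basis.mk_apply li _ i⟩
  rw [← KaehlerDifferential.span_range_derivation A B, Submodule.span_le]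
  rintro _ ⟨b, rfl⟩
  induction (h.adjoin_eq_top ▸ Algebra.mem_top :
      b ∈ Algebra.adjoin (pPowerSubalgebra p A B) (Set.range x)) using
    Algebra.adjoin_induction with
  | mem b hb => obtain ⟨i, rfl⟩ := hb; exact Submodule.subset_span ⟨i, rfl⟩
  | algebraMap r =>
      rw [show D A B (algebraMap (pPowerSubalgebra p A B) B r) = 0 from
        derivation_pPower h0 (D A B) r.2]
      exact zero_mem _
  | add a b _ _ ha hb => rw [map_add]; exact add_mem ha hb
  | mul a b _ _ ha hb =>
      rw [Derivation.leibniz]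
      exact add_mem (Submodule.smul_mem _ _ hb) (Submodule.smul_mem _ _ ha)

end ega41

end GrothLib.PBasis
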