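import Groth.Agent.Lib.PBasis.Field
import Mathlib.LinearAlgebra.TensorProduct.Basis
import Mathlib.LinearAlgebra.FiniteDimensional.Basic
import Mathlib.RingTheory.Kaehler.Basic

/-!
# Filtered families of subfields with intersection `k(K ^ p)`
-/

universe u

open scoped TensorProduct

namespace GrothLib.PBasis

section Gen
variable {p : ℕ} [hp : Fact p.Prime] {k : Type u} {K : Type u} [Field k] [Field K] [Algebra k K] [CharP K p]

lemma notMem_D {s : Set K} {y : K} (hy : y ∉ genField p k s) :
    KaehlerDifferential.D k K y ∉ Submodule.span K (KaehlerDifferential.D k K '' s) := by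
  intro hD
  set E := genField p k s
  have hpi : EGA41.IsPIndependent p E (fun _ : PUnit.{u+1} => y) := by
    rw [isPIndependent_iff]
    intro a hmem
    refine hy ?_
    have hle : ∀ b ∈ genField p E ((fun _ : PUnit.{u+1} => y) '' {b | b ≠ a}), b ∈ E := by
      intro b hb
      induction hb using IntermediateField.adjoin_induction with
      | mem z hz =>
          rcases hz with ⟨w, rfl⟩ | ⟨c, hc, rfl⟩
          · exact pPower_le_genField _ (Algebra.subset_adjoin ⟨w, rfl⟩)
          · exact absurd (Subsingleton.elim c a) hc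
      | algebraMap r => exact r.2
      | add _ _ _ _ h1 h2 => exact add_mem h1 h2
      | inv _ _ h1 => exact inv_mem h1
      | mul _ _ _ _ h1 h2 => exact mul_mem h1 h2
    exact hle y hmem
  have hne := ((isPIndependent_iff_linearIndependent _).1 hpi).ne_zero PUnit.unit
  apply hne
  have h0 : ∀ v ∈ Submodule.span K (KaehlerDifferential.D k K '' s), KaehlerDifferential.map k E K K v = 0 := by
    intro v hv
    induction hv using Submodule.span_induction with
    | mem v hv =>
      obtain ⟨w, hw, rfl⟩ := hv
      rw [KaehlerDifferential.map_D]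
      exact (KaehlerDifferential.D E K).map_algebraMap (⟨w, subset_genField s hw⟩ : E)
    | zero => simp
    | add a b _ _ ha hb => rw [map_add, ha, hb, add_zero]
    | smul c a _ ha => rw [map_smul, ha, smul_zero]
  have := h0 _ hD
  rw [KaehlerDifferential.map_D] at this
  exact this

lemma sup_eq_genField (E : IntermediateField k K) :
    E ⊔ IntermediateField.adjoin k (Set.range fun y : K => y ^ p) = genField p k (E : Set K) := by
  rw [genField, IntermediateField.adjoin_union, IntermediateField.adjoin_self, sup_comm]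

lemma exists_coeff {s : Set K} {a z : K} (hz : z ∈ genField p k (insert a s)) :
    ∃ c : Fin p → K, (∀ j, c j ∈ genField p k s) ∧ z = ∑ j, c j * a ^ (j : ℕ) := by
  classical
  set E := genField p k s
  have hap : a ^ p ∈ E := pPower_le_genField _ (Algebra.subset_adjoin ⟨a, rfl⟩)
  have halg : IsAlgebraic E a := ⟨Polynomial.X ^ p - Polynomial.C (⟨a ^ p, hap⟩ : E),
    (Polynomial.monic_X_pow_sub_C _ hp.out.ne_zero).ne_zero, by simp⟩
  have hz' : z ∈ IntermediateField.adjoin E ({a} : Set K) := by
    have hle : genField p k (insert a s) ≤ (IntermediateField.adjoin E ({a} : Set K)).restrictScalars k := by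
      rw [genField, IntermediateField.adjoin_le_iff]
      rintro w (hw | hw | hw)
      · exact IntermediateField.algebraMap_mem (IntermediateField.adjoin E ({a} : Set K))
          (⟨w, IntermediateField.subset_adjoin k _ (Or.inl hw)⟩ : E)
      · exact IntermediateField.subset_adjoin E _ hw
      · exact IntermediateField.algebraMap_mem (IntermediateField.adjoin E ({a} : Set K))
          (⟨w, subset_genField s hw⟩ : E)
    exact hle hz
  rw [← IntermediateField.mem_toSubalgebra, IntermediateField.adjoin_simple_toSubalgebra_of_isAlgebraic halg,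
    Algebra.adjoin_singleton_eq_range_aeval] at hz'
  obtain ⟨q, hq⟩ := hz'
  let g : Polynomial E := Polynomial.X ^ p - Polynomial.C (⟨a ^ p, hap⟩ : E)
  have hg : g.Monic := Polynomial.monic_X_pow_sub_C _ hp.out.ne_zero
  have hdeg : (q %ₘ g).natDegree < p := by
    have h := Polynomial.natDegree_modByMonic_lt q hg (by
      intro h; have := congrArg Polynomial.natDegree h; simp [g, hp.out.ne_zero] at this)
    simpa [g] using h
  refine ⟨fun j => ((q %ₘ g).coeff j : E), fun j => ((q %ₘ g).coeff j).2, ?_⟩
  have he : Polynomial.aeval a (q %ₘ g) = z := by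
    have h := congrArg (Polynomial.aeval a) (Polynomial.modByMonic_add_div q g)
    have hga : Polynomial.aeval a g = 0 := by simp [g]
    rw [map_add, map_mul, hga, zero_mul, add_zero] at h
    rw [h]; exact hq
  rw [← he, Polynomial.aeval_eq_sum_range' hdeg, ← Fin.sum_univ_eq_sum_range]
  exact Finset.sum_congr rfl fun j _ => rfl

lemma coeff_unique {s : Set K} {a : K} (ha : a ∉ genField p k s) (c c' : Fin p → K)
    (hc : ∀ j, c j ∈ genField p k s) (hc' : ∀ j, c' j ∈ genField p k s)
    (h : ∑ j, c j * a ^ (j : ℕ) = ∑ j, c' j * a ^ (j : ℕ)) : c = c' := by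
  classical
  set F := genField p k s
  have hap : a ^ p ∈ F := pPower_le_genField _ (Algebra.subset_adjoin ⟨a, rfl⟩)
  have hirr : Irreducible (Polynomial.X ^ p - Polynomial.C (⟨a ^ p, hap⟩ : F)) :=
    X_pow_sub_C_irreducible_of_prime hp.out fun b hb =>
      pow_ne_of_notMem ha b (by simpa using congrArg Subtype.val hb)
  have hmin : Polynomial.X ^ p - Polynomial.C (⟨a ^ p, hap⟩ : F) = minpoly F a :=
    minpoly.eq_of_irreducible_of_monic hirr (by simp) (Polynomial.monic_X_pow_sub_C _ hp.out.ne_zero)
  have li : LinearIndependent F (fun j : Fin p => a ^ (j : ℕ)) := by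
    have h' := linearIndependent_pow (K := F) a
    have hd : (minpoly F a).natDegree = p := by rw [← hmin, Polynomial.natDegree_X_pow_sub_C]
    exact h'.comp (Fin.cast hd.symm) (Fin.cast_injective _)
  funext j
  have := Fintype.linearIndependent_iff.1 li (fun j => (⟨c j - c' j, sub_mem (hc j) (hc' j)⟩ : F)) (by
    simp only [IntermediateField.smul_def, smul_eq_mul, sub_mul, Finset.sum_sub_distrib, h, sub_self]) j
  exact sub_eq_zero.mp (congrArg Subtype.val this)

lemma mem_of_forall {ι : Type u} [Preorder ι] [IsDirected ι (· ≤ ·)] [Nonempty ι] (T : ι → Set K)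
    (hT : Antitone T) (h : ∀ z, (∀ i, z ∈ genField p k (T i)) → z ∈ genField p k (∅ : Set K)) (S : Finset K) :
    ∀ z, (∀ i, z ∈ genField p k (T i ∪ (S : Set K))) → z ∈ genField p k (S : Set K) := by
  classical
  induction S using Finset.induction with
  | empty =>
    intro z hz
    rw [Finset.coe_empty]
    exact h z fun i => by simpa using hz i
  | insert a S _ ih =>
    intro z hz
    rw [Finset.coe_insert]
    by_cases ha : ∀ i, a ∈ genField p k (T i ∪ (S : Set K))
    · refine genField_mono (Set.subset_insert _ _) (ih z fun i => ?_)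
      have hle : genField p k (T i ∪ ↑(insert a S)) ≤ genField p k (T i ∪ (S : Set K)) := by
        rw [genField, IntermediateField.adjoin_le_iff]
        rintro w (hw | hw | hw)
        · exact IntermediateField.subset_adjoin k _ (Or.inl hw)
        · exact subset_genField _ (Or.inl hw)
        · rw [Finset.coe_insert] at hw
          rcases hw with rfl | hw
          · exact ha i
          · exact subset_genField _ (Or.inr hw)
      exact hle (hz i)
    push Not at ha
    obtain ⟨i₀, hi₀⟩ := ha
    have hex : ∀ i, ∃ c : Fin p → K, (∀ j, c j ∈ genField p k (T i ∪ (S : Set K))) ∧ z = ∑ j, c j * a ^ (j : ℕ) :=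
      fun i => exists_coeff (by simpa [Set.union_insert] using hz i)
    choose c hc hzc using hex
    have hall : ∀ i j, c i₀ j ∈ genField p k (T i ∪ (S : Set K)) := by
      intro i j
      obtain ⟨m, hm₁, hm₂⟩ := directed_of (· ≤ ·) i i₀
      have := coeff_unique hi₀ (c m) (c i₀)
        (fun l => genField_mono (Set.union_subset_union_left _ (hT hm₂)) (hc m l)) (hc i₀) ((hzc m).symm.trans (hzc i₀))
      rw [← this]
      exact genField_mono (Set.union_subset_union_left _ (hT hm₁)) (hc m j)
    rw [hzc i₀]
    refine sum_mem fun j _ => mul_mem (genField_mono (Set.subset_insert _ _) (ih _ fun i => hall i j))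
      (pow_mem (subset_genField _ (Set.mem_insert _ _)) _)

lemma inf_span_eq_bot {ι : Type u} [Preorder ι] [IsDirected ι (· ≤ ·)] [Nonempty ι] (T : ι → Set K)
    (hT : Antitone T) (h : ∀ z, (∀ i, z ∈ genField p k (T i)) → z ∈ genField p k (∅ : Set K))
    (ω : Ω[K⁄k]) (hω : ∀ i, ω ∈ Submodule.span K (KaehlerDifferential.D k K '' T i)) : ω = 0 := by
  classical
  suffices H : ∀ (S : Finset K) (v : Ω[K⁄k]), v ∈ Submodule.span K (KaehlerDifferential.D k K '' (S : Set K)) →
      (∀ i, v ∈ Submodule.span K (KaehlerDifferential.D k K '' T i)) → v = 0 by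
    have hmem : ω ∈ Submodule.span K (Set.range (KaehlerDifferential.D k K)) := by
      rw [KaehlerDifferential.span_range_derivation]; trivial
    obtain ⟨c, hc⟩ := Finsupp.mem_span_range_iff_exists_finsupp.1 hmem
    refine H c.support ω ?_ hω
    rw [← hc]
    exact sum_mem fun y hy => Submodule.smul_mem _ _ (Submodule.subset_span ⟨y, hy, rfl⟩)
  intro S
  induction S using Finset.induction with
  | empty => intro v hv _; simpa using hv
  | insert a S _ ih =>
    intro v hv hall
    rw [Finset.coe_insert, Set.image_insert_eq, Submodule.mem_span_insert] at hv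
    obtain ⟨c, v', hv', rfl⟩ := hv
    by_cases ha : a ∈ genField p k (S : Set K)
    · exact ih _ (add_mem (Submodule.smul_mem _ _ (D_mem_span ha)) hv') hall
    obtain ⟨i, hi⟩ : ∃ i, a ∉ genField p k (T i ∪ (S : Set K)) := by
      by_contra hcon
      push Not at hcon
      exact ha (mem_of_forall T hT h S a hcon)
    rcases eq_or_ne c 0 with rfl | hc
    · refine ih _ ?_ hall
      rwa [zero_smul, zero_add]
    exfalso
    refine notMem_D hi ?_
    rw [Set.image_union, Submodule.span_union]
    have := Submodule.smul_mem _ c⁻¹ (Submodule.sub_mem (Submodule.span K (KaehlerDifferential.D k K '' T i) ⊔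
      Submodule.span K (KaehlerDifferential.D k K '' (S : Set K))) (Submodule.mem_sup_left (hall i)) (Submodule.mem_sup_right hv'))
    rwa [add_sub_cancel_right, smul_smul, inv_mul_cancel₀ hc, one_smul] at this

end Gen

section Ext
variable {p : ℕ} [Fact p.Prime] {k K L : Type u} [Field k] [Field K] [Field L] [Algebra k K] [Algebra K L]
  [CharP K p] {ι : Type u} [Preorder ι] [IsDirected ι (· ≤ ·)] [Nonempty ι] (T : ι → Set K)

variable (k L) in
/-- The `L`-span of the `1 ⊗ d y`, `y ∈ T i`. -/
noncomputable def spanD (i : ι) : Submodule L (L ⊗[K] Ω[K⁄k]) :=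
  Submodule.span L ((fun y => (1 : L) ⊗ₜ[K] KaehlerDifferential.D k K y) '' T i)

lemma spanD_antitone (hT : Antitone T) : Antitone (spanD k L T) :=
  fun _ _ hij => Submodule.span_mono (Set.image_mono (hT hij))

lemma eq_zero_of_forall_mem_spanD (hT : Antitone T)
    (h : ∀ z, (∀ i, z ∈ genField p k (T i)) → z ∈ genField p k (∅ : Set K))
    (w : L ⊗[K] Ω[K⁄k]) (hw : ∀ i, w ∈ spanD k L T i) : w = 0 := by
  classical
  let B := Module.Free.chooseBasis K L
  let θ := TensorProduct.equivFinsuppOfBasisLeft (N := Ω[K⁄k]) B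
  have hco : ∀ i l, θ w l ∈ Submodule.span K (KaehlerDifferential.D k K '' T i) := by
    intro i l
    let V := Submodule.span K (KaehlerDifferential.D k K '' T i)
    have hle : spanD k L T i ≤ LinearMap.range (V.subtype.baseChange L) := by
      refine Submodule.span_le.2 ?_
      rintro _ ⟨y, hy, rfl⟩
      exact ⟨(1 : L) ⊗ₜ[K] ⟨_, Submodule.subset_span ⟨y, hy, rfl⟩⟩, rfl⟩
    obtain ⟨t, ht⟩ := hle (hw i)
    rw [← ht]
    clear ht
    induction t using TensorProduct.induction_on with
    | zero => simp
    | tmul a v =>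
      change θ (a ⊗ₜ[K] (v : Ω[K⁄k])) l ∈ V
      rw [TensorProduct.equivFinsuppOfBasisLeft_apply_tmul_apply]
      exact Submodule.smul_mem _ _ v.2
    | add a b ha hb =>
      rw [map_add, map_add, Finsupp.add_apply]
      exact add_mem ha hb
  apply θ.injective
  rw [map_zero]
  refine Finsupp.ext fun l => ?_
  exact inf_span_eq_bot (p := p) T hT h _ fun i => hco i l

lemma exists_inf_eq_bot (hT : Antitone T)
    (h : ∀ z, (∀ i, z ∈ genField p k (T i)) → z ∈ genField p k (∅ : Set K))
    (U : Submodule L (L ⊗[K] Ω[K⁄k])) [Module.Finite L U] : ∃ i₀, spanD k L T i₀ ⊓ U = ⊥ := by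
  classical
  obtain ⟨i₀, hmin⟩ : ∃ i₀, ∀ i, Module.finrank L ↥(spanD k L T i₀ ⊓ U) ≤ Module.finrank L ↥(spanD k L T i ⊓ U) :=
    ⟨Function.argmin (fun i => Module.finrank L ↥(spanD k L T i ⊓ U)),
      fun i => Function.argmin_le (f := fun i => Module.finrank L ↥(spanD k L T i ⊓ U)) (a := i)⟩
  refine ⟨i₀, eq_bot_iff.2 fun v hv => (Submodule.mem_bot L).2 (eq_zero_of_forall_mem_spanD T hT h v fun i => ?_)⟩
  obtain ⟨m, hm₁, hm₂⟩ := directed_of (· ≤ ·) i₀ i
  have hle : spanD k L T m ⊓ U ≤ spanD k L T i₀ ⊓ U := inf_le_inf_right _ (spanD_antitone T hT hm₁)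
  haveI : FiniteDimensional L ↥(spanD k L T i₀ ⊓ U) := Submodule.finiteDimensional_of_le inf_le_right
  rw [← Submodule.eq_of_le_of_finrank_le hle (hmin m)] at hv
  exact spanD_antitone T hT hm₂ hv.1

end Ext

end GrothLib.PBasis
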