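import Mathlib.FieldTheory.PerfectClosure
import Mathlib.RingTheory.Flat.EquationalCriterion
import Mathlib.RingTheory.Flat.FaithfullyFlat.Basic
import Mathlib.RingTheory.RingHom.FaithfullyFlat
import Mathlib.Algebra.CharP.Frobenius

/-!
# A ring with a `p`-basis has faithfully flat perfect closure
-/

namespace GrothLib.PBasis

universe u

variable (p : ℕ) [Fact p.Prime] {R : Type u} [CommRing R] [CharP R p] {ι : Type u} (x : ι → R)

/-- The Frobenius-linear map of a `p`-basis. -/
noncomputable def comb (c : {e : ι →₀ ℕ // ∀ i, e i < p} →₀ R) : R :=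
  c.sum (fun e r => r ^ p * e.1.prod (fun i n => x i ^ n))

theorem pow_p_ne : p ≠ 0 := (Fact.out : p.Prime).ne_zero

theorem comb_sum_smul {l : ℕ} (g : Fin l → R) (d : Fin l → ({e : ι →₀ ℕ // ∀ i, e i < p} →₀ R)) :
    comb p x (∑ i, g i • d i) = ∑ i, g i ^ p * comb p x (d i) := by
  classical
  have hadd : ∀ c c' : {e : ι →₀ ℕ // ∀ i, e i < p} →₀ R, comb p x (c + c') = comb p x c + comb p x c' :=
    fun c c' => Finsupp.sum_add_index' (fun e => by simp [pow_p_ne p])
      (fun e a b => by rw [add_pow_char, add_mul])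
  have hsmul : ∀ (r : R) c, comb p x (r • c) = r ^ p * comb p x c := fun r c => by
    rw [comb, comb, Finsupp.sum_smul_index (fun e => by simp [pow_p_ne p]), Finsupp.sum, Finsupp.sum, Finset.mul_sum]
    exact Finset.sum_congr rfl fun e _ => by rw [mul_pow, mul_assoc]
  let φ : ({e : ι →₀ ℕ // ∀ i, e i < p} →₀ R) →+ R :=
    AddMonoidHom.mk' (comb p x) hadd
  change φ _ = _
  rw [map_sum]
  exact Finset.sum_congr rfl fun i _ => hsmul _ _

/-- Linear relations with `p^n`-th power coefficients are trivial at level `n`. -/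
theorem trivial_rel (hx : Function.Bijective (comb p x)) :
    ∀ (n : ℕ) {l : ℕ} (f y : Fin l → R), ∑ i, f i ^ p ^ n * y i = 0 →
      ∃ (J : Type u) (_ : Fintype J) (c : Fin l → J → R) (z : J → R),
        (∀ i, y i = ∑ j, c i j ^ p ^ n * z j) ∧ ∀ j, ∑ i, f i * c i j = 0 := by
  classical
  intro n
  induction n with
  | zero =>
    intro l f y h
    refine ⟨PUnit, inferInstance, fun i _ => y i, fun _ => 1, fun i => by simp, fun _ => by simpa using h⟩
  | succ n ih =>
    intro l f y h
    choose d hd using fun i => hx.2 (y i)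
    have hz : ∑ i, (f i ^ p ^ n) • d i = 0 := by
      apply hx.1
      rw [comb_sum_smul, show comb p x 0 = 0 from Finsupp.sum_zero_index]
      simp only [hd, ← pow_mul, ← pow_succ]
      exact h
    let E : Finset {e : ι →₀ ℕ // ∀ i, e i < p} := Finset.univ.biUnion fun i => (d i).support
    have hrel : ∀ e, ∑ i, f i ^ p ^ n * d i e = 0 := fun e => by
      have := DFunLike.congr_fun hz e
      simpa [Finsupp.finsetSum_apply, smul_eq_mul] using this
    choose J hJ c z hc hz' using fun e : ↥E => ih f (fun i => d i e.1) (hrel e.1)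
    haveI := fun e => hJ e
    refine ⟨Σ e : ↥E, J e, inferInstance, fun i j => c j.1 i j.2,
      fun j => z j.1 j.2 ^ p * j.1.1.1.prod (fun i n => x i ^ n), fun i => ?_, fun j => hz' j.1 j.2⟩
    rw [← hd i, comb, Finsupp.sum_of_support_subset _ (s := E)
      (Finset.subset_biUnion_of_mem (fun i => (d i).support) (Finset.mem_univ i)) _ (fun e _ => by simp [pow_p_ne p]),
      ← Finset.sum_coe_sort E, Fintype.sum_sigma]
    refine Finset.sum_congr rfl fun e _ => ?_
    rw [hc e i, sum_pow_char, Finset.sum_mul]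
    exact Finset.sum_congr (by ext; simp) fun j _ => by rw [mul_pow, ← pow_mul, ← pow_succ, mul_assoc]

theorem exists_common_level {l : ℕ} (a : Fin l → PerfectClosure R p) :
    ∃ n, ∀ m, n ≤ m → ∀ i, ∃ y : R, a i ^ p ^ m = PerfectClosure.of R p y := by
  have h1 : ∀ s : PerfectClosure R p, ∃ (n : ℕ) (y : R), s ^ p ^ n = PerfectClosure.of R p y := fun s => by
    obtain ⟨⟨n, y⟩, rfl⟩ := PerfectClosure.mk_surjective R p s
    exact ⟨n, y, by rw [← iterate_frobenius, PerfectClosure.iterate_frobenius_mk]⟩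
  choose n y hy using fun i => h1 (a i)
  refine ⟨Finset.univ.sup n, fun m hm i => ⟨y i ^ p ^ (m - n i), ?_⟩⟩
  have : n i ≤ m := (Finset.le_sup (Finset.mem_univ i)).trans hm
  rw [map_pow, ← hy, ← pow_mul, ← pow_add, Nat.add_sub_cancel' this]

theorem of_eq_zero {w : R} (h : PerfectClosure.of R p w = 0) : ∃ z, w ^ p ^ z = 0 := by
  rw [PerfectClosure.of_apply, PerfectClosure.zero_def, PerfectClosure.mk_eq_iff] at h
  obtain ⟨z, hz⟩ := h
  exact ⟨0 + z, by simpa [iterate_frobenius, pow_p_ne p] using hz⟩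

/-- The perfect closure of a ring with a `p`-basis is faithfully flat. -/
theorem faithfullyFlat_of (hx : Function.Bijective (comb p x)) : (PerfectClosure.of R p).FaithfullyFlat := by
  classical
  algebraize [PerfectClosure.of R p]
  change Module.FaithfullyFlat R (PerfectClosure R p)
  have hinj : ∀ m, Function.Injective fun s : PerfectClosure R p => s ^ p ^ m := fun m a b h => by
    apply (PerfectRing.bijective_frobenius (R := PerfectClosure R p) (p := p)).1.iterate m
    simpa [iterate_frobenius] using h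
  have hflat : Module.Flat R (PerfectClosure R p) := by
    refine Module.Flat.of_forall_isTrivialRelation fun {l f a} h => ?_
    obtain ⟨n₀, hn₀⟩ := exists_common_level p a
    choose y hy using hn₀ n₀ le_rfl
    have h0 : PerfectClosure.of R p (∑ i, f i ^ p ^ n₀ * y i) = 0 := by
      have := congrArg (fun s : PerfectClosure R p => s ^ p ^ n₀) h
      simp only [Algebra.smul_def, RingHom.algebraMap_toAlgebra, sum_pow_char_pow, mul_pow, hy,
        zero_pow (pow_ne_zero n₀ (pow_p_ne p))] at this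
      simpa [map_sum, map_mul, map_pow] using this
    obtain ⟨z, hz⟩ := of_eq_zero p h0
    obtain ⟨J, hJ, c, w, hc, hcz⟩ := trivial_rel p x hx (n₀ + z) f (fun i => y i ^ p ^ z) (by
      rw [← hz, sum_pow_char_pow]
      exact Finset.sum_congr rfl fun i _ => by rw [mul_pow, ← pow_mul, ← pow_add])
    refine ⟨Fintype.card J, fun i j => c i ((Fintype.equivFin J).symm j),
      fun j => PerfectClosure.mk R p (n₀ + z, w ((Fintype.equivFin J).symm j)), fun i => ?_,
      fun j => hcz _⟩
    refine hinj (n₀ + z) ?_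
    simp only [Algebra.smul_def, RingHom.algebraMap_toAlgebra, sum_pow_char_pow, mul_pow,
      ← iterate_frobenius (p := p) (n := n₀ + z) (x := PerfectClosure.mk R p (_, _)),
      PerfectClosure.iterate_frobenius_mk, ← map_pow, ← map_mul, ← map_sum]
    rw [(Fintype.equivFin J).symm.sum_comp (fun j => c i j ^ p ^ (n₀ + z) * w j), ← hc i, map_pow, ← hy, pow_add, pow_mul]
  haveI := hflat
  rw [Module.FaithfullyFlat.iff_flat_and_ideal_smul_eq_top]
  refine ⟨hflat, fun m hm => ?_⟩
  by_contra hmne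
  obtain ⟨M, hM, hmM⟩ := m.exists_le_maximal hmne
  have h1 : (1 : PerfectClosure R p) ∈ m • (⊤ : Submodule R (PerfectClosure R p)) := by rw [hm]; exact Submodule.mem_top
  suffices H : ∀ s ∈ m • (⊤ : Submodule R (PerfectClosure R p)), ∃ n, ∀ k, n ≤ k → ∃ r ∈ M, s ^ p ^ k = PerfectClosure.of R p r by
    obtain ⟨n, hn⟩ := H 1 h1
    obtain ⟨r, hr, hr1⟩ := hn n le_rfl
    rw [one_pow, ← map_one (PerfectClosure.of R p), ← sub_eq_zero, ← map_sub] at hr1
    obtain ⟨z, hz⟩ := of_eq_zero p hr1
    have hmem : (1 : R) - r ∈ M := hM.isPrime.mem_of_pow_mem _ (hz ▸ M.zero_mem)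
    exact hM.ne_top ((Ideal.eq_top_iff_one M).2 (by simpa using M.add_mem hmem hr))
  intro s hs
  refine Submodule.smul_induction_on hs (fun a ha b _ => ?_) (fun s t hs ht => ?_)
  · obtain ⟨n, hn⟩ := exists_common_level p ![b]
    refine ⟨n, fun k hk => ?_⟩
    obtain ⟨y, hy⟩ := hn k hk 0
    refine ⟨a ^ p ^ k * y, M.mul_mem_right _ (Ideal.pow_mem_of_mem _ (hmM ha) _ (pow_pos (Fact.out : p.Prime).pos k)), ?_⟩
    simp only [Matrix.cons_val_zero] at hy
    rw [Algebra.smul_def, RingHom.algebraMap_toAlgebra, mul_pow, hy, map_mul, map_pow]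
  · obtain ⟨n, hn⟩ := hs
    obtain ⟨n', hn'⟩ := ht
    refine ⟨max n n', fun k hk => ?_⟩
    obtain ⟨r, hr, e⟩ := hn k (le_of_max_le_left hk)
    obtain ⟨r', hr', e'⟩ := hn' k (le_of_max_le_right hk)
    exact ⟨r + r', M.add_mem hr hr', by rw [add_pow_char_pow, e, e', map_add]⟩

end GrothLib.PBasis
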