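import Groth.Agent.Lib.PBasis.Tower
import Mathlib.RingTheory.TensorProduct.Free
import Mathlib.Algebra.CharP.Frobenius

/-!
# The imperfection module along a `p`-basis of a reduced ring
-/

universe u v w

open EGA41
open scoped TensorProduct
open KaehlerDifferential (D)

namespace GrothLib.PBasis

variable {p : ℕ} [hp : Fact p.Prime]

/-- Absolute differentials from a root basis over a ring of `p`-th powers. -/
theorem exists_basis_kaehler_int {C : Type w} {B : Type u} [CommRing C] [CommRing B] [Algebra C B]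
    (h0 : (p : B) = 0) {ι : Type u} {x : ι → B} (h : IsRootBasis p C x)
    (hC : ∀ c : C, ∃ b : B, algebraMap C B c = b ^ p) :
    ∃ b : Module.Basis ι B (Ω[B⁄ℤ]), ∀ i, b i = D ℤ B (x i) := by
  obtain ⟨D', ⟨-, hD2⟩, -⟩ := h.existsUnique_derivation h0 (L := ι →₀ B) 0 (by simp) (by simp)
    (fun i => Finsupp.single i 1)
  let f : Ω[B⁄ℤ] →ₗ[B] (ι →₀ B) := D'.liftKaehlerDifferential
  have hf : ∀ i, f (D ℤ B (x i)) = Finsupp.single i 1 := fun i => by
    rw [Derivation.liftKaehlerDifferential_comp_D]; exact hD2 i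
  have li : LinearIndependent B fun i => D ℤ B (x i) := by
    refine LinearIndependent.of_comp f ?_
    simpa [Function.comp_def, hf] using Finsupp.linearIndependent_single_one B ι
  refine ⟨Module.Basis.mk li ?_, fun i => Module.Basis.mk_apply li _ i⟩
  rw [← KaehlerDifferential.span_range_derivation ℤ B, Submodule.span_le]
  rintro _ ⟨b, rfl⟩
  induction (h.adjoin_eq_top ▸ Algebra.mem_top : b ∈ Algebra.adjoin C (Set.range x)) using
    Algebra.adjoin_induction with
  | mem b hb => obtain ⟨i, rfl⟩ := hb; exact Submodule.subset_span ⟨i, rfl⟩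
  | algebraMap r =>
      obtain ⟨b, hb⟩ := hC r
      rw [hb, leibniz_pow_p p (D ℤ B) h0 b]
      exact zero_mem _
  | add a b _ _ ha hb => rw [map_add]; exact add_mem ha hb
  | mul a b _ _ ha hb =>
      rw [Derivation.leibniz]
      exact add_mem (Submodule.smul_mem _ _ hb) (Submodule.smul_mem _ _ ha)

variable {R A B : Type u} [CommRing R] [CommRing A] [CommRing B] [Algebra R A] [Algebra A B]
  [Algebra R B] [IsScalarTower R A B]

theorem isRootBasis_frobenius_range [IsReduced B] [CharP A p] [CharP B p]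
    (hinj : Function.Injective (algebraMap A B))
    (hpow : ∀ b : B, b ^ p ∈ Set.range (algebraMap A B))
    (hR : Set.range (algebraMap R B) = Set.range fun b : B => b ^ p)
    {Λ M : Type u} {x : Λ → B} (hx : IsPBasis p A x) {x' : Λ → A}
    (hx' : ∀ i, algebraMap A B (x' i) = x i ^ p) {y : M → A} (hy : IsPBasis p R y) :
    IsRootBasis p (frobenius A p).range (Sum.elim x' y) := by
  classical
  set S0 : Subring A := (frobenius A p).range with hS0
  have hroot : ∀ i, Sum.elim x' y i ^ p ∈ Set.range (algebraMap S0 A) := fun i =>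
    ⟨⟨_, _, rfl⟩, rfl⟩
  have hpowR : ∀ a : A, a ^ p ∈ Set.range (algebraMap R A) := by
    intro a
    obtain ⟨r, hr⟩ : algebraMap A B a ^ p ∈ Set.range (algebraMap R B) := hR ▸ ⟨_, rfl⟩
    exact ⟨r, hinj (by rw [← IsScalarTower.algebraMap_apply, hr, map_pow])⟩
  have hxA := isRootBasis_base hinj hpow hx
  have hyS := isRootBasis_of_isPBasis hy
  have hmono : ∀ e : Λ →₀ ℕ, algebraMap A B (pMonomial x' e) = pMonomial x e ^ p := by
    intro e
    rw [map_pMonomial]
    simp only [hx', pMonomial, Finsupp.prod, ← Finset.prod_pow]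
    exact Finset.prod_congr rfl fun i _ => by rw [← pow_mul, ← pow_mul, mul_comm]
  have hmem : ∀ a : A, algebraMap A B a ∈ (Set.range fun b : B => b ^ p) →
      a ∈ pPowerSubalgebra p R A := by
    intro a ha
    obtain ⟨r, hr⟩ := hR.ge ha
    rw [← hinj (show algebraMap A B (algebraMap R A r) = algebraMap A B a by
      rw [← IsScalarTower.algebraMap_apply, hr])]
    exact Subalgebra.algebraMap_mem _ r
  refine ⟨hroot, ?_, ?_⟩
  · let v : Red p Λ × Red p M → A := fun q => pMonomial x' q.1.1 * pMonomial y q.2.1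
    have hv : (fun e : Red p (Λ ⊕ M) => pMonomial (Sum.elim x' y) e.1) = v ∘ redSum p Λ M :=
      funext fun e => pMonomial_sumElim x' y e.1
    rw [hv, linearIndependent_equiv (redSum p Λ M), linearIndependent_iff']
    intro s g hg q hq
    choose a ha using fun q => (g q).2
    let F : Red p M → Finset (Red p Λ × Red p M) := fun f => s.filter fun q => q.2 = f
    let c : Red p M → A := fun f => ∑ q ∈ F f, a q ^ p * pMonomial x' q.1.1
    have hc : ∀ f, algebraMap A B (c f) = (∑ q ∈ F f, a q • pMonomial x q.1.1) ^ p := by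
      intro f
      rw [sum_pow_char, map_sum]
      refine Finset.sum_congr rfl fun q _ => ?_
      rw [Algebra.smul_def, mul_pow, map_mul, map_pow, hmono]
    let c' : Red p M → pPowerSubalgebra p R A := fun f => ⟨c f, hmem _ ⟨_, (hc f).symm⟩⟩
    have hsum : ∑ f ∈ s.image Prod.snd, c' f • pMonomial y f.1 = 0 := by
      refine Eq.trans ?_ hg
      rw [← Finset.sum_fiberwise_of_maps_to (t := s.image Prod.snd) (g := Prod.snd)
        (fun q hq => Finset.mem_image_of_mem _ hq) (fun q => g q • v q)]
      refine Finset.sum_congr rfl fun f _ => ?_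
      change c f * _ = _
      rw [Finset.sum_mul]
      refine Finset.sum_congr rfl fun q hq => ?_
      obtain ⟨-, rfl⟩ := Finset.mem_filter.1 hq
      change _ = ((g q : A)) * _
      rw [← ha q, frobenius_def, mul_assoc]
    have h1 := congrArg (Subtype.val (p := fun z => z ∈ pPowerSubalgebra p R A))
      (linearIndependent_iff'.1 hyS.indep _ c' hsum q.2 (Finset.mem_image_of_mem _ hq))
    have h2 : (∑ q' ∈ F q.2, a q' • pMonomial x q'.1.1) = 0 := by
      refine pow_eq_zero_iff hp.out.ne_zero |>.1 ?_
      rw [← hc]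
      exact (congrArg _ h1).trans (map_zero _)
    have h3 := linearIndependent_iff'.1 (hxA.indep.comp (fun q' : {q' // q' ∈ F q.2} => q'.1.1)
      (fun q₁ q₂ h => Subtype.ext (Prod.ext h ((Finset.mem_filter.1 q₁.2).2.trans
        (Finset.mem_filter.1 q₂.2).2.symm)))) (F q.2).attach (fun q' => a q'.1)
      ((Finset.sum_attach (F q.2) fun q' => a q' • pMonomial x q'.1.1).trans h2)
      ⟨q, Finset.mem_filter.2 ⟨hq, rfl⟩⟩ (Finset.mem_attach _ _)
    refine Subtype.ext ?_
    rw [← ha q, h3, map_zero]
    rfl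
  · rw [span_red_eq_adjoin p hroot, Algebra.toSubmodule_eq_top]
    have hS : ∀ a ∈ pPowerSubalgebra p R A,
        a ∈ Algebra.adjoin S0 (Set.range (Sum.elim x' y)) := by
      intro a ha
      rw [pPower_eq_bot hpowR, Algebra.mem_bot] at ha
      obtain ⟨r, rfl⟩ := ha
      obtain ⟨b, hb⟩ := hR.le ⟨r, rfl⟩
      have : b ^ p ∈ (Algebra.adjoin S0 (Set.range (Sum.elim x' y))).toSubring.map
          (algebraMap A B) := by
        suffices h : ∀ z, z ∈ Algebra.adjoin A (Set.range x) →
            z ^ p ∈ (Algebra.adjoin S0 (Set.range (Sum.elim x' y))).toSubring.map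
              (algebraMap A B) from h b (hxA.adjoin_eq_top ▸ Algebra.mem_top)
        intro z hz
        induction hz using Algebra.adjoin_induction with
        | mem z hz =>
            obtain ⟨i, rfl⟩ := hz
            exact ⟨x' i, Algebra.subset_adjoin ⟨Sum.inl i, rfl⟩, hx' i⟩
        | algebraMap c =>
            exact ⟨c ^ p, Subalgebra.algebraMap_mem _ (⟨c ^ p, c, rfl⟩ : S0), map_pow _ _ _⟩
        | add z₁ z₂ _ _ h1 h2 => rw [add_pow_char]; exact add_mem h1 h2
        | mul z₁ z₂ _ _ h1 h2 => rw [mul_pow]; exact mul_mem h1 h2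
      obtain ⟨a', ha', ha''⟩ := this
      rwa [← hinj (show algebraMap A B a' = algebraMap A B (algebraMap R A r) by
        rw [ha'', ← IsScalarTower.algebraMap_apply]; exact hb)]
    have hall : ∀ a, a ∈ Algebra.adjoin (pPowerSubalgebra p R A) (Set.range y) →
        a ∈ Algebra.adjoin S0 (Set.range (Sum.elim x' y)) := by
      intro a ha
      induction ha using Algebra.adjoin_induction with
      | mem z hz => obtain ⟨i, rfl⟩ := hz; exact Algebra.subset_adjoin ⟨Sum.inr i, rfl⟩
      | algebraMap c => exact hS _ c.2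
      | add _ _ _ _ h1 h2 => exact add_mem h1 h2
      | mul _ _ _ _ h1 h2 => exact mul_mem h1 h2
    exact eq_top_iff.2 fun a _ => hall a (hyS.adjoin_eq_top ▸ Algebra.mem_top)

/-- The differentials of the `p`-th powers of a `p`-basis are a basis of the imperfection module. -/
theorem exists_basis_imperfection [IsReduced B] [CharP B p]
    (hinj : Function.Injective (algebraMap A B))
    (hpow : ∀ b : B, b ^ p ∈ Set.range (algebraMap A B))
    (hR : Set.range (algebraMap R B) = Set.range fun b : B => b ^ p)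
    {Λ M : Type u} {x : Λ → B} (hx : IsPBasis p A x) {x' : Λ → A}
    (hx' : ∀ i, algebraMap A B (x' i) = x i ^ p) {y : M → A} (hy : IsPBasis p R y) :
    ∃ b : Module.Basis Λ B (EGA41.imperfection ℤ A B),
      ∀ i, (b i : B ⊗[A] Ω[A⁄ℤ]) = (1 : B) ⊗ₜ[A] D ℤ A (x' i) := by
  haveI : CharP A p := (RingHom.charP_iff (algebraMap A B) hinj p).2 inferInstance
  have h0A : (p : A) = 0 := CharP.cast_eq_zero A p
  have h0B : (p : B) = 0 := CharP.cast_eq_zero B p
  obtain ⟨bA, hbA⟩ := exists_basis_kaehler_int h0A
    (isRootBasis_frobenius_range hinj hpow hR hx hx' hy) (fun c => by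
      obtain ⟨a, ha⟩ := c.2
      exact ⟨a, ha.symm⟩)
  let bT := Algebra.TensorProduct.basis B bA
  have hbT : ∀ i, bT i = (1 : B) ⊗ₜ[A] D ℤ A (Sum.elim x' y i) := fun i => by
    rw [Algebra.TensorProduct.basis_apply, hbA]
  let f := KaehlerDifferential.mapBaseChange ℤ A B
  have hinl : ∀ i, f (bT (Sum.inl i)) = 0 := fun i => by
    rw [hbT, KaehlerDifferential.mapBaseChange_tmul, one_smul, KaehlerDifferential.map_D,
      Sum.elim_inl, hx', leibniz_pow_p p (D ℤ B) h0B]
  have hpowR : ∀ b : B, b ^ p ∈ Set.range (algebraMap R B) := fun b => hR ▸ ⟨b, rfl⟩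
  obtain ⟨bB, hbB⟩ := exists_basis_kaehler (A := R) h0B _
    ⟨(isPIndependent_tower hinj hpowR hy).1 hx.1, isPGenerating_tower hinj hpowR hy.2 hx.2⟩
  have hinr : LinearIndependent B (f ∘ bT ∘ Sum.inr) := by
    refine LinearIndependent.of_comp (KaehlerDifferential.map ℤ R B B) ?_
    refine (linearIndependent_iff.2 ?_)
    have := (bB.linearIndependent.comp Sum.inl Sum.inl_injective)
    have e : (KaehlerDifferential.map ℤ R B B) ∘ f ∘ bT ∘ Sum.inr = bB ∘ Sum.inl := funext fun i => by
      simp only [Function.comp_apply, hbT, hbB, Sum.elim_inl, Sum.elim_inr, f,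
        KaehlerDifferential.mapBaseChange_tmul, one_smul, KaehlerDifferential.map_D,
        Algebra.algebraMap_self, RingHom.id_apply]
    rw [e]
    exact linearIndependent_iff.1 this
  have hspan : Submodule.span B (Set.range (bT ∘ Sum.inl)) = EGA41.imperfection ℤ A B := by
    apply le_antisymm
    · rw [Submodule.span_le]
      rintro _ ⟨i, rfl⟩
      exact hinl i
    · intro v hv
      have hv' : v ∈ Submodule.span B (Set.range (bT ∘ Sum.inl)) ⊔
          Submodule.span B (Set.range (bT ∘ Sum.inr)) := by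
        rw [← Submodule.span_union, ← Sum.range_eq, bT.span_eq]
        exact Submodule.mem_top
      obtain ⟨u, hu, w, hw, rfl⟩ := Submodule.mem_sup.1 hv'
      have hu0 : f u = 0 := by
        have : Submodule.span B (Set.range (bT ∘ Sum.inl)) ≤ LinearMap.ker f := by
          rw [Submodule.span_le]; rintro _ ⟨i, rfl⟩; exact hinl i
        exact this hu
      obtain ⟨l, rfl⟩ := Finsupp.mem_span_range_iff_exists_finsupp.1 hw
      have hl : Finsupp.linearCombination B (f ∘ bT ∘ Sum.inr) l = 0 := by
        have hv0 : f (u + l.sum fun i a => a • (bT ∘ Sum.inr) i) = 0 := hv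
        rw [map_add, hu0, zero_add, map_finsuppSum] at hv0
        simpa [Finsupp.linearCombination_apply] using hv0
      rw [linearIndependent_iff.1 hinr l hl, Finsupp.sum_zero_index, add_zero]
      exact hu
  refine ⟨(Module.Basis.span (bT.linearIndependent.comp _ Sum.inl_injective)).map
    (LinearEquiv.ofEq _ _ hspan), fun i => ?_⟩
  rw [Module.Basis.map_apply, LinearEquiv.coe_ofEq_apply]
  refine (congrArg Subtype.val (Module.Basis.span_apply _ i)).trans ?_
  exact (hbT (Sum.inl i)).trans rfl

end GrothLib.PBasis
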