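import Groth.Agent.Lib.PBasis.Basic
import Mathlib.Algebra.Category.Ring.Epi
import Mathlib.RingTheory.Unramified.Basic
import Mathlib.RingTheory.IntegralClosure.IsIntegralClosure.Basic
import Mathlib.RingTheory.Ideal.Cotangent

/-!
# Radicial extensions in characteristic `p`
-/

universe u

open scoped TensorProduct
open KaehlerDifferential (D)

namespace GrothLib.PBasis

variable {p : ℕ} [hp : Fact p.Prime] {A B : Type u} [CommRing A] [CommRing B] [Algebra A B]

theorem isNilpotent_of_mem_ideal (h0 : (p : B) = 0) {s : ℕ}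
    (hpow : ∀ b : B, b ^ p ^ s ∈ Set.range (algebraMap A B)) {x : B ⊗[A] B}
    (hx : x ∈ KaehlerDifferential.ideal A B) : IsNilpotent x := by
  have h0' : (p : B ⊗[A] B) = 0 := by
    rw [← map_natCast (Algebra.TensorProduct.includeLeftRingHom : B →+* B ⊗[A] B), h0, map_zero]
  rw [← mem_nilradical]
  refine (?_ : KaehlerDifferential.ideal A B ≤ nilradical _) hx
  rw [← KaehlerDifferential.span_range_eq_ideal, Ideal.span_le]
  rintro _ ⟨b, rfl⟩
  refine mem_nilradical.2 ⟨p ^ s, ?_⟩
  obtain ⟨a, ha⟩ := hpow b
  rw [sub_pow_of_natCast_eq_zero p h0', Algebra.TensorProduct.tmul_pow,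
    Algebra.TensorProduct.tmul_pow, one_pow, ← ha, Algebra.algebraMap_eq_smul_one,
    TensorProduct.smul_tmul, sub_self]

theorem surjective_of_subsingleton_kaehler [Algebra.FiniteType A B] (h0 : (p : B) = 0) {s : ℕ}
    (hpow : ∀ b : B, b ^ p ^ s ∈ Set.range (algebraMap A B)) [Subsingleton (Ω[B⁄A])] :
    Function.Surjective (algebraMap A B) := by
  have : Algebra.IsIntegral A B := ⟨fun b => by
    obtain ⟨a, ha⟩ := hpow b
    exact IsIntegral.of_pow (pow_pos hp.out.pos s) (ha ▸ isIntegral_algebraMap)⟩
  have : Module.Finite A B := Algebra.IsIntegral.finite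
  have hidem : IsIdempotentElem (KaehlerDifferential.ideal A B) :=
    (Ideal.cotangent_subsingleton_iff _).1 ‹Subsingleton (Ω[B⁄A])›
  obtain ⟨e, he, heq⟩ := (Ideal.isIdempotentElem_iff_of_fg _
    (KaehlerDifferential.ideal_fg A B)).1 hidem
  have he0 : e = 0 := he.eq_zero_of_isNilpotent
    (isNilpotent_of_mem_ideal h0 hpow (heq ▸ Ideal.mem_span_singleton_self e))
  have : Algebra.IsEpi A B := by
    rw [Algebra.isEpi_iff_forall_one_tmul_eq]
    intro b
    have h := KaehlerDifferential.one_smul_sub_smul_one_mem_ideal A b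
    rw [heq, he0, Submodule.span_zero_singleton, Submodule.mem_bot, sub_eq_zero] at h
    exact h
  exact (Algebra.isEpi_iff_surjective_algebraMap_of_finite).1 this

theorem span_D_eq_top (h0 : (p : B) = 0) {ι : Type u} (x : ι → B)
    (hx : Algebra.adjoin (EGA41.pPowerSubalgebra p A B) (Set.range x) = ⊤) :
    Submodule.span B (Set.range fun i => D A B (x i)) = ⊤ := by
  rw [eq_top_iff, ← KaehlerDifferential.span_range_derivation A B, Submodule.span_le]
  rintro _ ⟨b, rfl⟩
  induction (hx ▸ Algebra.mem_top :
      b ∈ Algebra.adjoin (EGA41.pPowerSubalgebra p A B) (Set.range x)) using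
    Algebra.adjoin_induction with
  | mem b hb => obtain ⟨i, rfl⟩ := hb; exact Submodule.subset_span ⟨i, rfl⟩
  | algebraMap r =>
      rw [show D A B (algebraMap (EGA41.pPowerSubalgebra p A B) B r) = 0 from
        derivation_pPower h0 (D A B) r.2]
      exact zero_mem _
  | add a b _ _ ha hb => rw [map_add]; exact add_mem ha hb
  | mul a b _ _ ha hb =>
      rw [Derivation.leibniz]
      exact add_mem (Submodule.smul_mem _ _ hb) (Submodule.smul_mem _ _ ha)

theorem map_pPower_bijective (h0 : (p : B) = 0) (A' : Subalgebra A B)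
    (hA' : A' ≤ EGA41.pPowerSubalgebra p A B) :
    Function.Bijective (KaehlerDifferential.map A A' B B) := by
  let D' : Derivation A' B (Ω[B⁄A]) := Derivation.mk'
    { toFun := D A B
      map_add' := map_add _
      map_smul' := fun a b => by
        rw [Algebra.smul_def, Derivation.leibniz,
          show D A B (algebraMap A' B a) = 0 from derivation_pPower h0 (D A B) (hA' a.2),
          smul_zero, add_zero, RingHom.id_apply, algebraMap_smul] }
    (fun a b => (D A B).leibniz a b)
  let g : Ω[B⁄A'] →ₗ[B] Ω[B⁄A] := D'.liftKaehlerDifferential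
  refine ⟨Function.LeftInverse.injective (g := g) ?_, KaehlerDifferential.map_surjective A A' B⟩
  intro ω
  have : (g ∘ₗ KaehlerDifferential.map A A' B B) = LinearMap.id := by
    refine LinearMap.ext_on_range (KaehlerDifferential.span_range_derivation A B) fun b => ?_
    rw [LinearMap.comp_apply, KaehlerDifferential.map_D, Algebra.algebraMap_self_apply,
      Derivation.liftKaehlerDifferential_comp_D]
    rfl
  exact LinearMap.congr_fun this ω

end GrothLib.PBasis
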