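import Groth.Agent.Lib.PBasis.Basic
import Mathlib.Data.Finsupp.Basic

/-!
# Towers of `p`-bases
-/

universe u v w

open EGA41

namespace GrothLib.PBasis

/-- Linear independence in a tower along a basis of the intermediate ring. -/
theorem linearIndependent_smul_iff {R : Type*} {S : Type*} {M : Type*} [CommRing R] [CommRing S]
    [AddCommGroup M] [Algebra R S] [Module R M] [Module S M] [IsScalarTower R S M]
    {ι : Type*} {κ : Type*} (b : Module.Basis ι R S) (c : κ → M) :
    LinearIndependent R (fun q : ι × κ => b q.1 • c q.2) ↔ LinearIndependent S c := by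
  classical
  refine ⟨fun h => ?_, fun h => linearIndependent_smul b.linearIndependent h⟩
  rw [linearIndependent_iff'] at h ⊢
  intro s g hg j hj
  let T : Finset ι := s.biUnion fun j => (b.repr (g j)).support
  have key : ∀ j ∈ s, (∑ i ∈ T, b.repr (g j) i • b i) = g j := by
    intro j hj
    conv_rhs => rw [← b.linearCombination_repr (g j), Finsupp.linearCombination_apply]
    rw [Finsupp.sum]
    symm
    refine Finset.sum_subset (Finset.subset_biUnion_of_mem (fun j => (b.repr (g j)).support) hj) ?_
    intro i _ hi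
    rw [Finsupp.notMem_support_iff.1 hi, zero_smul]
  have h0 := h (T ×ˢ s) (fun q => b.repr (g q.2) q.1) (by
    rw [Finset.sum_product_right, ← hg]
    refine Finset.sum_congr rfl fun j hj => ?_
    conv_rhs => rw [← key j hj, Finset.sum_smul]
    exact Finset.sum_congr rfl fun i _ => (smul_assoc _ _ _).symm)
  rw [← key j hj]
  refine Finset.sum_eq_zero fun i hi => ?_
  rw [h0 (i, j) (Finset.mk_mem_product hi hj), zero_smul]

/-- Linear independence does not see a bijective change of rings. -/
theorem linearIndependent_iff_of_bijective {R : Type*} {R' : Type*} {M : Type*} [CommRing R]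
    [CommRing R'] [AddCommGroup M] [Module R M] [Module R' M] (f : R →+* R')
    (hf : Function.Bijective f) (hc : ∀ (r : R) (m : M), f r • m = r • m) {ι : Type*} (v : ι → M) :
    LinearIndependent R v ↔ LinearIndependent R' v := by
  classical
  rw [linearIndependent_iff', linearIndependent_iff']
  constructor
  · intro h s g hg i hi
    choose g' hg' using fun i => hf.2 (g i)
    rw [← hg' i, h s g' (by simpa only [← hc, hg'] using hg) i hi, map_zero]
  · intro h s g hg i hi
    exact hf.1 ((h s (fun i => f (g i)) (by simpa only [hc] using hg) i hi).trans (map_zero f).symm)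

variable {p : ℕ} [hp : Fact p.Prime]

/-- Splitting reduced exponent vectors of a disjoint union. -/
noncomputable def redSum (p : ℕ) (ι κ : Type u) : Red p (ι ⊕ κ) ≃ Red p ι × Red p κ where
  toFun e :=
    (⟨(Finsupp.sumFinsuppEquivProdFinsupp e.1).1, fun i => by
      rw [Finsupp.fst_sumFinsuppEquivProdFinsupp]; exact e.2 _⟩,
     ⟨(Finsupp.sumFinsuppEquivProdFinsupp e.1).2, fun i => by
      rw [Finsupp.snd_sumFinsuppEquivProdFinsupp]; exact e.2 _⟩)
  invFun q := ⟨Finsupp.sumFinsuppEquivProdFinsupp.symm (q.1.1, q.2.1), fun i => by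
    cases i with
    | inl i => rw [Finsupp.sumFinsuppEquivProdFinsupp_symm_inl]; exact q.1.2 i
    | inr i => rw [Finsupp.sumFinsuppEquivProdFinsupp_symm_inr]; exact q.2.2 i⟩
  left_inv e := Subtype.ext (Finsupp.sumFinsuppEquivProdFinsupp.symm_apply_apply e.1)
  right_inv q := by
    simp only [Equiv.apply_symm_apply]

omit hp in
theorem pMonomial_sumElim {ι κ B : Type u} [CommRing B] (f : ι → B) (g : κ → B) (e : ι ⊕ κ →₀ ℕ) :
    pMonomial (Sum.elim f g) e =
      pMonomial f (Finsupp.sumFinsuppEquivProdFinsupp e).1 *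
        pMonomial g (Finsupp.sumFinsuppEquivProdFinsupp e).2 := by
  obtain ⟨⟨a, b⟩, rfl⟩ := Finsupp.sumFinsuppEquivProdFinsupp.symm.surjective e
  rw [Equiv.apply_symm_apply]
  have h : Finsupp.sumFinsuppEquivProdFinsupp.symm (a, b) =
      Finsupp.mapDomain Sum.inl a + Finsupp.mapDomain Sum.inr b := by
    ext (i | i)
    · rw [Finsupp.sumFinsuppEquivProdFinsupp_symm_inl, Finsupp.add_apply,
        Finsupp.mapDomain_apply Sum.inl_injective, Finsupp.mapDomain_notin_range _ _ (by simp),
        add_zero]
    · rw [Finsupp.sumFinsuppEquivProdFinsupp_symm_inr, Finsupp.add_apply,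
        Finsupp.mapDomain_apply Sum.inr_injective, Finsupp.mapDomain_notin_range _ _ (by simp),
        zero_add]
  rw [h]
  simp only [pMonomial]
  rw [Finsupp.prod_add_index' (fun _ => pow_zero _) (fun _ _ _ => pow_add _ _ _),
    Finsupp.prod_mapDomain_index_inj Sum.inl_injective,
    Finsupp.prod_mapDomain_index_inj Sum.inr_injective]
  rfl

variable {A C B : Type u} [CommRing A] [CommRing C] [CommRing B] [Algebra A C] [Algebra C B]
  [Algebra A B] [IsScalarTower A C B]

theorem pow_mem_range_mid (hinj : Function.Injective (algebraMap C B))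
    (hpow : ∀ b : B, b ^ p ∈ Set.range (algebraMap A B)) (c : C) :
    c ^ p ∈ Set.range (algebraMap A C) := by
  obtain ⟨a, ha⟩ := hpow (algebraMap C B c)
  exact ⟨a, hinj (by rw [← IsScalarTower.algebraMap_apply, ha, map_pow])⟩

omit [Algebra C B] [IsScalarTower A C B] [Algebra A C] in
theorem isPGenerating_iff_adjoin (hpow : ∀ b : B, b ^ p ∈ Set.range (algebraMap A B))
    {ι : Type u} (x : ι → B) :
    IsPGenerating p A x ↔ Algebra.adjoin A (Set.range x) = ⊤ := by
  rw [IsPGenerating, ← Algebra.toSubmodule_eq_top,
    ← span_red_eq_adjoin p (C := A) (fun i => hpow (x i)),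
    ← Submodule.restrictScalars_span A (pPowerSubalgebra p A B) (surjective_algebraMap_pPower hpow),
    Submodule.restrictScalars_eq_top_iff]

theorem isPGenerating_tower (hinj : Function.Injective (algebraMap C B))
    (hpow : ∀ b : B, b ^ p ∈ Set.range (algebraMap A B)) {ι κ : Type u} {x : ι → C} {y : κ → B}
    (hx : IsPGenerating p A x) (hy : IsPGenerating p C y) :
    IsPGenerating p A (Sum.elim (fun i => algebraMap C B (x i)) y) := by
  rw [isPGenerating_iff_adjoin (pow_mem_range_mid hinj hpow)] at hx
  rw [isPGenerating_iff_adjoin (fun b => by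
    obtain ⟨a, ha⟩ := hpow b
    exact ⟨algebraMap A C a, by rw [← IsScalarTower.algebraMap_apply, ha]⟩)] at hy
  rw [isPGenerating_iff_adjoin hpow]
  have hC : ∀ c, c ∈ Algebra.adjoin A (Set.range x) → algebraMap C B c ∈
      Algebra.adjoin A (Set.range (Sum.elim (fun i => algebraMap C B (x i)) y)) := by
    intro c hc
    induction hc using Algebra.adjoin_induction with
    | mem z hz =>
        obtain ⟨i, rfl⟩ := hz
        exact Algebra.subset_adjoin ⟨Sum.inl i, rfl⟩
    | algebraMap a => rw [← IsScalarTower.algebraMap_apply]; exact Subalgebra.algebraMap_mem _ a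
    | add _ _ _ _ h1 h2 => rw [map_add]; exact add_mem h1 h2
    | mul _ _ _ _ h1 h2 => rw [map_mul]; exact mul_mem h1 h2
  have hB : ∀ b, b ∈ Algebra.adjoin C (Set.range y) → b ∈
      Algebra.adjoin A (Set.range (Sum.elim (fun i => algebraMap C B (x i)) y)) := by
    intro b hb
    induction hb using Algebra.adjoin_induction with
    | mem z hz =>
        obtain ⟨i, rfl⟩ := hz
        exact Algebra.subset_adjoin ⟨Sum.inr i, rfl⟩
    | add _ _ _ _ h1 h2 => exact add_mem h1 h2
    | mul _ _ _ _ h1 h2 => exact mul_mem h1 h2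
    | algebraMap c => exact hC c (hx ▸ Algebra.mem_top)
  exact eq_top_iff.2 fun b _ => hB b (hy ▸ Algebra.mem_top)

theorem isPIndependent_tower (hinj : Function.Injective (algebraMap C B))
    (hpow : ∀ b : B, b ^ p ∈ Set.range (algebraMap A B)) {ι κ : Type u} {x : ι → C} {y : κ → B}
    (hx : IsPBasis p A x) :
    IsPIndependent p C y ↔ IsPIndependent p A (Sum.elim (fun i => algebraMap C B (x i)) y) := by
  have hpowC : ∀ b : B, b ^ p ∈ Set.range (algebraMap C B) := fun b => by
    obtain ⟨a, ha⟩ := hpow b
    exact ⟨algebraMap A C a, by rw [← IsScalarTower.algebraMap_apply, ha]⟩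
  have h1 : IsPIndependent p C y ↔ LinearIndependent C (fun e : Red p κ => pMonomial y e.1) :=
    (linearIndependent_iff_of_bijective (algebraMap C (pPowerSubalgebra p C B))
      ⟨fun a b hab => hinj (congrArg Subtype.val hab), surjective_algebraMap_pPower hpowC⟩
      (fun r m => algebraMap_smul _ r m) _).symm
  let b : Module.Basis (Red p ι) (pPowerSubalgebra p A C) C := Module.Basis.mk hx.1 hx.2.ge
  have hb : ∀ e, b e = pMonomial x e.1 := fun e => Module.Basis.mk_apply _ _ e
  have hmap : ∀ c : C, c ∈ pPowerSubalgebra p A C → algebraMap C B c ∈ pPowerSubalgebra p A B := by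
    intro c hc
    rw [pPower_eq_bot (pow_mem_range_mid hinj hpow), Algebra.mem_bot] at hc
    obtain ⟨a, rfl⟩ := hc
    rw [← IsScalarTower.algebraMap_apply]
    exact Subalgebra.algebraMap_mem _ a
  let f : pPowerSubalgebra p A C →+* pPowerSubalgebra p A B :=
    ((algebraMap C B).comp (algebraMap (pPowerSubalgebra p A C) C)).codRestrict
      (pPowerSubalgebra p A B) fun c => hmap c.1 c.2
  have hf : Function.Bijective f := by
    refine ⟨fun c d hcd => Subtype.ext (hinj (congrArg Subtype.val hcd)), fun c => ?_⟩
    obtain ⟨a, rfl⟩ := surjective_algebraMap_pPower hpow c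
    exact ⟨algebraMap A _ a, Subtype.ext (IsScalarTower.algebraMap_apply A C B a).symm⟩
  have h2 : IsPIndependent p A (Sum.elim (fun i => algebraMap C B (x i)) y) ↔
      LinearIndependent (pPowerSubalgebra p A C)
        (fun q : Red p ι × Red p κ => b q.1 • pMonomial y q.2.1) := by
    rw [IsPIndependent, ← linearIndependent_iff_of_bijective (M := B) f hf
      (fun r m => (Algebra.smul_def (r : C) m).symm)]
    have hfun : (fun e : Red p (ι ⊕ κ) => pMonomial (Sum.elim (fun i => algebraMap C B (x i)) y) e.1) =
        (fun q : Red p ι × Red p κ => b q.1 • pMonomial y q.2.1) ∘ redSum p ι κ := by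
      funext e
      symm
      change b (redSum p ι κ e).1 • pMonomial y (redSum p ι κ e).2.1 = _
      rw [hb, Algebra.smul_def, map_pMonomial, pMonomial_sumElim]
      rfl
    rw [← linearIndependent_equiv (redSum p ι κ)
      (f := fun q : Red p ι × Red p κ => b q.1 • pMonomial y q.2.1), ← hfun]
  rw [h1, h2]
  exact (linearIndependent_smul_iff b (fun e : Red p κ => pMonomial y e.1)).symm

end GrothLib.PBasis
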